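import Mathlib
import Groth.Prelude.Def_Bivar
import Groth.Prelude.Def_Bivar2
import Groth.Prelude.Def_W4stkchowintpicEnv
import Groth.Agent.Lib.Helper18.Push.Envelope
import Groth.Agent.Lib.Helper24.FibreDim.Scheme
import Groth.Agent.Lib.lead.DimFunPullback

/-!
# Bivariant classes are determined by their restriction to an envelope
-/

set_option autoImplicit false
set_option linter.style.haveILetI false
universe u
open AlgebraicGeometry CategoryTheory CategoryTheory.Limits

namespace Groth.Agent.Lib.Helper18.BivarEnv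

open Groth.Agent.Lib.Helper18.Push Groth.Agent.Lib.Helper24

/-- Cancellation for induced dimension functions. -/
theorem deltaCompat_cancel {X Y Z : Scheme.{u}} (f : X ⟶ Y) [LocallyOfFiniteType f] (g : Y ⟶ Z)
    (δX : X → ℤ) (δY : Y → ℤ) (δZ : Z → ℤ) (hfg : Cyc.DeltaCompat (f ≫ g) δX δZ)
    (hg : Cyc.DeltaCompat g δY δZ) : Cyc.DeltaCompat f δX δY := by
  intro x
  obtain ⟨N, hN, hδN⟩ := hfg x
  obtain ⟨m, hm, hδm⟩ := hg (f x)
  refine ⟨FibreDim.tr f x, FibreDim.tr_spec f x, ?_⟩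
  let algYX : Algebra (Y.residueField (f x)) (X.residueField x) := (f.residueFieldMap x).hom.toAlgebra
  let algZY : Algebra (Z.residueField (g (f x))) (Y.residueField (f x)) :=
    (g.residueFieldMap (f x)).hom.toAlgebra
  let algZX : Algebra (Z.residueField (g (f x))) (X.residueField x) :=
    ((f ≫ g).residueFieldMap x).hom.toAlgebra
  have hST : IsScalarTower (Z.residueField (g (f x))) (Y.residueField (f x)) (X.residueField x) :=
    IsScalarTower.of_algebraMap_eq' (by
      change ((f ≫ g).residueFieldMap x).hom = (f.residueFieldMap x).hom.comp (g.residueFieldMap (f x)).hom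
      rw [Scheme.residueFieldMap_comp]; rfl)
  have h1 : FaithfulSMul (Z.residueField (g (f x))) (Y.residueField (f x)) :=
    (faithfulSMul_iff_algebraMap_injective _ _).mpr (RingHom.injective _)
  have h2 : FaithfulSMul (Y.residueField (f x)) (X.residueField x) :=
    (faithfulSMul_iff_algebraMap_injective _ _).mpr (RingHom.injective _)
  have key := trdeg_add_eq (Z.residueField (g (f x))) (Y.residueField (f x)) (A := X.residueField x)
  have hN' : Algebra.trdeg (Z.residueField (g (f x))) (X.residueField x) = N := hN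
  have htr : Algebra.trdeg (Y.residueField (f x)) (X.residueField x) = FibreDim.tr f x :=
    FibreDim.tr_spec f x
  have hm' : Algebra.trdeg (Z.residueField (g (f x))) (Y.residueField (f x)) = m := hm
  rw [hN', htr, hm'] at key
  have hnat : m + FibreDim.tr f x = N := by exact_mod_cast key
  have hδN' : δX x = δZ (g (f x)) + N := hδN
  rw [hδN', hδm, ← hnat]
  push_cast
  ring

/-- The induced dimension function along a morphism locally of finite type exists. -/
theorem exists_deltaCompat {X Y : Scheme.{u}} (f : X ⟶ Y) [LocallyOfFiniteType f] (δY : Y → ℤ) :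
    ∃ δX : X → ℤ, Cyc.DeltaCompat f δX δY :=
  ⟨fun x => δY (f x) + FibreDim.tr f x, fun x => ⟨FibreDim.tr f x, FibreDim.tr_spec f x, rfl⟩⟩

/-- Proper pushforward as an additive map on `k`-cycles. -/
noncomputable def mapHom {T S : Scheme.{u}} (h : T ⟶ S) [QuasiCompact h] (δT : T → ℤ) (δS : S → ℤ)
    (l : ℤ) : ↥(ChowOps.zk T δT l) →+ ↥(ChowOps.zk S δS l) where
  toFun a := ⟨AlgebraicCycle.map h δT δS a.1, Bivar.cycMap_mem_Zk h δT δS l a.2⟩
  map_zero' := Subtype.ext (Bivar.cycMap_zero h δT δS)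
  map_add' a b := Subtype.ext (Bivar.cycMap_add h δT δS a.1 b.1)

/-- Proper pushforward descends to Chow groups. -/
theorem cl_map_congr {T S : Scheme.{u}} [IsLocallyNoetherian T] [IsLocallyNoetherian S]
    (h : T ⟶ S) [IsProper h] (δT : T → ℤ) (δS : S → ℤ) (hdT : Cyc.IsDimFun T δT)
    (hdS : Cyc.IsDimFun S δS) (hδ : Cyc.DeltaCompat h δT δS) (l : ℤ)
    (β₁ β₂ : AlgebraicCycle T ℤ) (h₁ : β₁ ∈ Cyc.Zk T δT l) (h₂ : β₂ ∈ Cyc.Zk T δT l)
    (e : ChowOps.cl β₁ h₁ = ChowOps.cl β₂ h₂) :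
    ChowOps.cl (AlgebraicCycle.map h δT δS β₁) (Bivar.cycMap_mem_Zk h δT δS l h₁) =
      ChowOps.cl (AlgebraicCycle.map h δT δS β₂) (Bivar.cycMap_mem_Zk h δT δS l h₂) := by
  have hle : ChowOps.ratTriv T δT l ≤ (ChowOps.ratTriv S δS l).comap (mapHom h δT δS l) := by
    unfold ChowOps.ratTriv
    rw [AddSubgroup.closure_le]
    intro a ha
    apply AddSubgroup.subset_closure
    exact ratEquivZero_map h δT δS hdT hdS hδ l a.1 ha
  have e' : (⟨β₁, h₁⟩ : ↥(ChowOps.zk T δT l)) - ⟨β₂, h₂⟩ ∈ ChowOps.ratTriv T δT l := by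
    have := e
    unfold ChowOps.cl ChowOps.clHom at this
    rw [QuotientAddGroup.mk'_apply, QuotientAddGroup.mk'_apply, QuotientAddGroup.eq_iff_sub_mem] at this
    exact this
  have e2 := hle e'
  rw [AddSubgroup.mem_comap, _root_.map_sub] at e2
  unfold ChowOps.cl ChowOps.clHom
  rw [QuotientAddGroup.mk'_apply, QuotientAddGroup.mk'_apply, QuotientAddGroup.eq_iff_sub_mem]
  exact e2

/-- **A bivariant class is determined by its restriction to an envelope.** -/
theorem cl_eq_of_res_eq_of_envelope (X Y : Scheme.{u}) (δX : X → ℤ) (δY : Y → ℤ)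
    (hX : Cyc.IsSetup X δX) (f : X ⟶ Y) [LocallyOfFiniteType f] (p : ℤ)
    (s₀ : Bivar.Sq f δX δY) [IsProper s₀.g] (hcd : Cyc.IsCompletelyDecomposed s₀.g)
    (c₁ c₂ : Bivar.Cl p f δX δY) (heq : c₁.res s₀ = c₂.res s₀) : c₁ = c₂ := by
  haveI := hX.1
  apply Bivar.Cl.ext
  funext s k
  apply AddMonoidHom.ext
  intro x
  obtain ⟨α, hα, rfl⟩ := Bivar.exists_rep x
  haveI := s.lft
  haveI := s₀.lft
  -- the square `t₁` over `s₀.f'`
  let h : pullback s₀.g s.g ⟶ s.Y' := pullback.snd s₀.g s.g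
  let g₁ : pullback s₀.g s.g ⟶ s₀.Y' := pullback.fst s₀.g s.g
  obtain ⟨δT, hδT⟩ := exists_deltaCompat g₁ s₀.δY'
  let g₁' : pullback g₁ s₀.f' ⟶ s₀.X' := pullback.snd g₁ s₀.f'
  obtain ⟨δT', hδT'⟩ := exists_deltaCompat g₁' s₀.δX'
  let t₁ : Bivar.Sq s₀.f' s₀.δX' s₀.δY' :=
    { Y' := pullback s₀.g s.g
      X' := pullback g₁ s₀.f'
      g := g₁
      f' := pullback.fst g₁ s₀.f'
      g' := g₁'
      isPullback := IsPullback.of_hasPullback g₁ s₀.f'
      lft := inferInstance
      δY' := δT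
      δX' := δT'
      compatY := hδT
      compatX := hδT' }
  let T : Bivar.Sq f δX δY := s₀.paste t₁
  have w₁ : h ≫ s.g = T.g := pullback.condition.symm
  have hTpb : IsPullback T.f' T.g' (h ≫ s.g) f := by
    rw [w₁]
    exact T.isPullback
  have hpb := IsPullback.of_bot' hTpb s.isPullback
  set h' : T.X' ⟶ s.X' := s.isPullback.lift (T.f' ≫ h) T.g' (by rw [Category.assoc, hTpb.w])
    with hh'
  have w₂ : h' ≫ s.f' = T.f' ≫ h := s.isPullback.lift_fst _ _ _
  have w₃ : h' ≫ s.g' = T.g' := s.isPullback.lift_snd _ _ _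
  haveI : IsProper h := inferInstance
  haveI : IsProper h' := MorphismProperty.of_isPullback hpb inferInstance
  -- finiteness and dimension functions on the fibre products
  haveI : LocallyOfFiniteType s.g' := MorphismProperty.of_isPullback s.isPullback s.lft
  haveI : LocallyOfFiniteType T.g' := MorphismProperty.of_isPullback T.isPullback T.lft
  haveI : IsLocallyNoetherian s.X' := LocallyOfFiniteType.isLocallyNoetherian s.g'
  haveI : IsLocallyNoetherian T.X' := LocallyOfFiniteType.isLocallyNoetherian T.g'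
  have hdS : Cyc.IsDimFun s.X' s.δX' :=
    Groth.Agent.Lib.lead.DimFunPullback.main s.g' δX hX s.δX' s.compatX
  have hdT : Cyc.IsDimFun T.X' T.δX' :=
    Groth.Agent.Lib.lead.DimFunPullback.main T.g' δX hX T.δX' T.compatX
  have hδh' : Cyc.DeltaCompat h' T.δX' s.δX' :=
    deltaCompat_cancel h' s.g' T.δX' s.δX' δX (by rw [w₃]; exact T.compatX) s.compatX
  have hδh : Cyc.DeltaCompat h T.δY' s.δY' :=
    deltaCompat_cancel h s.g T.δY' s.δY' δY (by rw [w₁]; exact T.compatY) s.compatY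
  -- lift the cycle
  have hcdh : Cyc.IsCompletelyDecomposed h :=
    Groth.Agent.Lib.Helper9.CDec.isCompletelyDecomposed_snd _ _ _ s₀.g s.g hcd
  choose g₀ hg₀ hsurj using hcdh
  have hα' : liftCycle h g₀ α ∈ Cyc.Zk T.Y' T.δY' k :=
    liftCycle_mem_Zk h g₀ hg₀ T.δY' s.δY' hδh hsurj k α hα
  have hmap : AlgebraicCycle.map h T.δY' s.δY' (liftCycle h g₀ α) = α :=
    map_liftCycle h g₀ hg₀ T.δY' s.δY' hδh hsurj α
  obtain ⟨β₁, hβ₁, e1, e2⟩ := c₁.push s T h h' w₁ w₂ w₃ k (liftCycle h g₀ α) hα'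
  obtain ⟨β₂, hβ₂, e1', e2'⟩ := c₂.push s T h h' w₁ w₂ w₃ k (liftCycle h g₀ α) hα'
  have hop : c₁.op T k = c₂.op T k := congrArg (fun c => c.op t₁ k) heq
  have hββ : ChowOps.cl β₁ hβ₁ = ChowOps.cl β₂ hβ₂ := by rw [← e1, ← e1', hop]
  have hpush := cl_map_congr h' T.δX' s.δX' hdT hdS hδh' (k - p) β₁ β₂ hβ₁ hβ₂ hββ
  have hcl : ChowOps.cl α hα = ChowOps.cl (AlgebraicCycle.map h T.δY' s.δY' (liftCycle h g₀ α))
      (Bivar.cycMap_mem_Zk h T.δY' s.δY' k hα') := Bivar.cl_congr hmap.symm _ _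
  rw [hcl, e2, e2', hpush]

end Groth.Agent.Lib.Helper18.BivarEnv
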