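import Mathlib
import Groth.Prelude.Def_Bivar2
import Groth.Agent.Lib.Helper18.Bivar.Envelope
import Groth.Agent.Lib.Helper18.Push.BaseChange
import Groth.Agent.Lib.Helper18.Push.GysinPullSq
import Groth.Agent.Lib.Helper18.Cyc.C1Finite
import Groth.Agent.Lib.Helper18.Cyc.PullRat
import Groth.Agent.Lib.Helper18.Cyc.PullComp
import Groth.Agent.Lib.Helper18.Cyc.PullSquare
import Groth.Agent.Lib.Helper18.Cyc.LimRat
import Groth.Agent.Lib.lead.DimFunPullback
import Groth.Agent.Lib.lead.FibreDimBCLocal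

/-!
# The flat pullback class in `A^{-r}(X ⟶ Y)`
-/

set_option autoImplicit false
set_option linter.style.haveILetI false
universe u
open AlgebraicGeometry CategoryTheory Limits

namespace Groth.Agent.Lib.Helper18.BivarFlat

open Groth.Agent.Lib.Helper18.BivarEnv Groth.Agent.Lib.Helper18.Push
open Groth.Agent.Lib.Helper18.CycDiv Groth.Agent.Lib.Helper18.CycPull
open Groth.Agent.Lib.Helper18.C1Core

section basic

variable {X Y : Scheme.{u}}

/-- Rationally equivalent cycles have the same class. -/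
theorem cl_eq_of_ratEquiv {δ : X → ℤ} {k : ℤ} (γ ζ : AlgebraicCycle X ℤ)
    (hγ : γ ∈ Cyc.Zk X δ k) (hζ : ζ ∈ Cyc.Zk X δ k) (h : Cyc.RatEquiv δ k γ ζ) :
    ChowOps.cl γ hγ = ChowOps.cl ζ hζ := by
  unfold ChowOps.cl ChowOps.clHom
  rw [QuotientAddGroup.mk'_apply, QuotientAddGroup.mk'_apply, QuotientAddGroup.eq_iff_sub_mem]
  apply AddSubgroup.subset_closure
  exact h

/-- The flat pullback of a cycle, as a cycle. -/
noncomputable def pullCycle [IsLocallyNoetherian X] (f : X ⟶ Y) (δX : X → ℤ) (δY : Y → ℤ) (r : ℤ)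
    (α : AlgebraicCycle Y ℤ) : AlgebraicCycle X ℤ :=
  { toFun := Cyc.pullFun f δX δY r ⇑α
    supportWithinDomain' := Set.subset_univ _
    supportLocallyFiniteWithinDomain' := fun y _ =>
      locallyFiniteSupport_pullFun f δX δY r α y }

theorem coe_pullCycle [IsLocallyNoetherian X] (f : X ⟶ Y) (δX : X → ℤ) (δY : Y → ℤ) (r : ℤ)
    (α : AlgebraicCycle Y ℤ) : ⇑(pullCycle f δX δY r α) = Cyc.pullFun f δX δY r ⇑α := rfl

theorem pullCycle_mem [IsLocallyNoetherian X] (f : X ⟶ Y) (δX : X → ℤ) (δY : Y → ℤ) (r k l : ℤ)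
    (e : k + r = l) (α : AlgebraicCycle Y ℤ) (hα : α ∈ Cyc.Zk Y δY k) :
    pullCycle f δX δY r α ∈ Cyc.Zk X δX l :=
  e ▸ Bivar.pullFun_mem_Zk f δX δY r k hα _ rfl

/-- Flat pullback as an additive map on cycles of fixed weight. -/
noncomputable def pullZk [IsLocallyNoetherian X] (f : X ⟶ Y) (δX : X → ℤ) (δY : Y → ℤ)
    (r k l : ℤ) (e : k + r = l) : ↥(ChowOps.zk Y δY k) →+ ↥(ChowOps.zk X δX l) where
  toFun a := ⟨pullCycle f δX δY r a.1, pullCycle_mem f δX δY r k l e a.1 a.2⟩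
  map_zero' := by
    apply Subtype.ext
    ext x
    show Cyc.pullFun f δX δY r ⇑(0 : AlgebraicCycle Y ℤ) x = 0
    rw [Function.locallyFinsuppWithin.coe_zero, Bivar.pullFun_zero]
    rfl
  map_add' a b := by
    apply Subtype.ext
    ext x
    show Cyc.pullFun f δX δY r ⇑(a.1 + b.1) x = _
    rw [Function.locallyFinsuppWithin.coe_add, Bivar.pullFun_add]
    rfl

/-- Flat pullback on Chow groups, given that it preserves rational equivalence to zero. -/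
noncomputable def pullCH [IsLocallyNoetherian X] (f : X ⟶ Y) (δX : X → ℤ) (δY : Y → ℤ)
    (r k l : ℤ) (e : k + r = l)
    (hle : ∀ γ : AlgebraicCycle Y ℤ, Cyc.RatEquivZero δY k γ →
      Cyc.RatEquivZero δX l (pullCycle f δX δY r γ)) :
    ChowOps.CH Y δY k →+ ChowOps.CH X δX l :=
  QuotientAddGroup.map (ChowOps.ratTriv Y δY k) (ChowOps.ratTriv X δX l)
    (pullZk f δX δY r k l e) (by
      unfold ChowOps.ratTriv
      rw [AddSubgroup.closure_le]
      intro a ha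
      apply AddSubgroup.subset_closure
      exact hle a.1 ha)

theorem pullCH_cl [IsLocallyNoetherian X] (f : X ⟶ Y) (δX : X → ℤ) (δY : Y → ℤ)
    (r k l : ℤ) (e : k + r = l)
    (hle : ∀ γ : AlgebraicCycle Y ℤ, Cyc.RatEquivZero δY k γ →
      Cyc.RatEquivZero δX l (pullCycle f δX δY r γ))
    (α : AlgebraicCycle Y ℤ) (hα : α ∈ Cyc.Zk Y δY k) :
    pullCH f δX δY r k l e hle (ChowOps.cl α hα) =
      ChowOps.cl (pullCycle f δX δY r α) (pullCycle_mem f δX δY r k l e α hα) := rfl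

end basic

section facts

variable {X Y : Scheme.{u}} {δX : X → ℤ} {δY : Y → ℤ} {f : X ⟶ Y}

theorem lft_g' (s : Bivar.Sq f δX δY) : LocallyOfFiniteType s.g' :=
  MorphismProperty.of_isPullback s.isPullback s.lft

theorem lft_f' [LocallyOfFiniteType f] (s : Bivar.Sq f δX δY) : LocallyOfFiniteType s.f' :=
  MorphismProperty.of_isPullback s.isPullback.flip inferInstance

theorem flat_f' [Flat f] (s : Bivar.Sq f δX δY) : Flat s.f' :=
  MorphismProperty.of_isPullback s.isPullback.flip inferInstance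

theorem noeth_Y' (hN : IsLocallyNoetherian Y) (s : Bivar.Sq f δX δY) :
    IsLocallyNoetherian s.Y' :=
  haveI := s.lft
  LocallyOfFiniteType.isLocallyNoetherian s.g

theorem noeth_X' (hN : IsLocallyNoetherian X) (s : Bivar.Sq f δX δY) :
    IsLocallyNoetherian s.X' :=
  haveI := lft_g' s
  LocallyOfFiniteType.isLocallyNoetherian s.g'

theorem dim_Y' (hY : Cyc.IsSetup Y δY) (s : Bivar.Sq f δX δY) : Cyc.IsDimFun s.Y' s.δY' :=
  haveI := s.lft
  Groth.Agent.Lib.lead.DimFunPullback.main s.g δY hY s.δY' s.compatY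

theorem dim_X' (hX : Cyc.IsSetup X δX) (s : Bivar.Sq f δX δY) : Cyc.IsDimFun s.X' s.δX' :=
  haveI := lft_g' s
  Groth.Agent.Lib.lead.DimFunPullback.main s.g' δX hX s.δX' s.compatX

theorem relDim_f' [LocallyOfFiniteType f] (r : ℕ) (hr : Cyc.HasRelDim f r)
    (s : Bivar.Sq f δX δY) : Cyc.HasRelDim s.f' r :=
  (Groth.Agent.Lib.lead.FibreDimBCLocal.S9358 f s.g s.g' s.f' s.isPullback.flip r).2.2 hr

theorem compat_f' [LocallyOfFiniteType f] (hδ : Cyc.DeltaCompat f δX δY)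
    (s : Bivar.Sq f δX δY) : Cyc.DeltaCompat s.f' s.δX' s.δY' := by
  haveI := lft_f' s
  have hfg : Cyc.DeltaCompat (s.f' ≫ s.g) s.δX' δY := by
    rw [s.isPullback.w]
    exact Bivar.deltaCompat_comp s.g' f s.δX' δX δY s.compatX hδ
  exact deltaCompat_cancel s.f' s.g s.δX' s.δY' δY hfg s.compatY

/-- The square of base changes attached to a morphism of squares is a pullback. -/
theorem isPullback_of_sq (s t : Bivar.Sq f δX δY) (h : t.Y' ⟶ s.Y') (h' : t.X' ⟶ s.X')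
    (w₁ : h ≫ s.g = t.g) (w₂ : h' ≫ s.f' = t.f' ≫ h) (w₃ : h' ≫ s.g' = t.g') :
    IsPullback t.f' h' h s.f' := by
  refine IsPullback.of_bot ?_ w₂.symm s.isPullback
  rw [w₁, w₃]
  exact t.isPullback

theorem compat_h (s t : Bivar.Sq f δX δY) (h : t.Y' ⟶ s.Y') (w₁ : h ≫ s.g = t.g) :
    Cyc.DeltaCompat h t.δY' s.δY' := by
  haveI := s.lft
  haveI := t.lft
  haveI : LocallyOfFiniteType (h ≫ s.g) := by rw [w₁]; infer_instance
  haveI : LocallyOfFiniteType h := locallyOfFiniteType_of_comp h s.g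
  exact deltaCompat_cancel h s.g t.δY' s.δY' δY (by rw [w₁]; exact t.compatY) s.compatY

theorem compat_h' (s t : Bivar.Sq f δX δY) (h' : t.X' ⟶ s.X') (w₃ : h' ≫ s.g' = t.g') :
    Cyc.DeltaCompat h' t.δX' s.δX' := by
  haveI := lft_g' s
  haveI := lft_g' t
  haveI : LocallyOfFiniteType (h' ≫ s.g') := by rw [w₃]; infer_instance
  haveI : LocallyOfFiniteType h' := locallyOfFiniteType_of_comp h' s.g'
  exact deltaCompat_cancel h' s.g' t.δX' s.δX' δX (by rw [w₃]; exact t.compatX) s.compatX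

end facts

section cls

variable {X Y : Scheme.{u}} (δX : X → ℤ) (δY : Y → ℤ) (hX : Cyc.IsSetup X δX)
  (hY : Cyc.IsSetup Y δY) (f : X ⟶ Y) [Flat f] [LocallyOfFiniteType f] (r : ℕ)
  (hr : Cyc.HasRelDim f r) (hδ : Cyc.DeltaCompat f δX δY)

include hX hY hr hδ in
theorem hle_sq (s : Bivar.Sq f δX δY) (k l : ℤ) (e : k + (r : ℤ) = l) :
    haveI := noeth_X' (hX.1) s
    ∀ γ : AlgebraicCycle s.Y' ℤ, Cyc.RatEquivZero s.δY' k γ →
      Cyc.RatEquivZero s.δX' l (pullCycle s.f' s.δX' s.δY' (r : ℤ) γ) := by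
  haveI := hX.1
  haveI := hY.1
  haveI := noeth_X' (hX.1) s
  haveI := noeth_Y' (hY.1) s
  haveI := flat_f' s
  haveI := lft_f' s
  intro γ hγ
  subst e
  exact ratEquivZero_pull s.f' s.δX' s.δY' (dim_X' hX s) (dim_Y' hY s) r (relDim_f' r hr s)
    (compat_f' hδ s) k γ hγ _ rfl

/-- The operation of the flat pullback class. -/
noncomputable def flatOp (s : Bivar.Sq f δX δY) (k : ℤ) :
    ChowOps.CH s.Y' s.δY' k →+ ChowOps.CH s.X' s.δX' (k - -(r : ℤ)) :=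
  haveI := noeth_X' (hX.1) s
  pullCH s.f' s.δX' s.δY' (r : ℤ) k (k - -(r : ℤ)) (by ring)
    (hle_sq δX δY hX hY f r hr hδ s k _ (by ring))

theorem flatOp_cl (s : Bivar.Sq f δX δY) (k : ℤ) (α : AlgebraicCycle s.Y' ℤ)
    (hα : α ∈ Cyc.Zk s.Y' s.δY' k) :
    haveI := noeth_X' (hX.1) s
    flatOp δX δY hX hY f r hr hδ s k (ChowOps.cl α hα) =
      ChowOps.cl (pullCycle s.f' s.δX' s.δY' (r : ℤ) α)
        (pullCycle_mem s.f' s.δX' s.δY' (r : ℤ) k _ (by ring) α hα) := rfl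

theorem hc_of_relDim {A B : Scheme.{u}} (g : A ⟶ B) [LocallyOfFiniteType g] (r : ℕ)
    (hr : Cyc.HasRelDim g r) (δA : A → ℤ) (δB : B → ℤ) (hδ : Cyc.DeltaCompat g δA δB) :
    ∀ a : A, (∀ y, g y = g a → y ⤳ a → y = a) → δA a = δB (g a) + (r : ℤ) := by
  intro a hmax
  rw [delta_eq_add_tr g δA δB hδ a, tr_eq_of_isMax g r hr a hmax]

include hX hY hr hδ in
theorem flat_push (s t : Bivar.Sq f δX δY) (h : t.Y' ⟶ s.Y') [IsProper h] (h' : t.X' ⟶ s.X')
    [IsProper h'] (w₁ : h ≫ s.g = t.g) (w₂ : h' ≫ s.f' = t.f' ≫ h) (w₃ : h' ≫ s.g' = t.g')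
    (k : ℤ) :
    Bivar.PushOK t.δY' t.δX' s.δY' s.δX' h h' (flatOp δX δY hX hY f r hr hδ t k)
      (flatOp δX δY hX hY f r hr hδ s k) := by
  haveI := noeth_X' hX.1 s
  haveI := noeth_X' hX.1 t
  haveI := flat_f' s
  haveI := flat_f' t
  haveI := lft_f' s
  haveI := lft_f' t
  intro α hα
  refine ⟨pullCycle t.f' t.δX' t.δY' (r : ℤ) α,
    pullCycle_mem t.f' t.δX' t.δY' (r : ℤ) k _ (by ring) α hα,
    flatOp_cl δX δY hX hY f r hr hδ t k α hα, ?_⟩
  rw [flatOp_cl]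
  apply Bivar.cl_congr
  have key := pullFun_map_eq_map_pullFun (isPullback_of_sq s t h h' w₁ w₂ w₃) s.δY' s.δX'
    t.δY' t.δX' (dim_X' hX s) (dim_X' hX t) (compat_h s t h w₁) (compat_h' s t h' w₃) (r : ℤ)
    (hc_of_relDim s.f' r (relDim_f' r hr s) s.δX' s.δY' (compat_f' hδ s))
    (hc_of_relDim t.f' r (relDim_f' r hr t) t.δX' t.δY' (compat_f' hδ t))
    α (pullCycle t.f' t.δX' t.δY' (r : ℤ) α) rfl
  ext x'
  exact congrFun key x'

include hX hY hr hδ in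
theorem flat_pull (s t : Bivar.Sq f δX δY) (h : t.Y' ⟶ s.Y') [Flat h] (h' : t.X' ⟶ s.X')
    [Flat h'] (r' : ℕ) (hr₁ : Cyc.HasRelDim h r') (hr₂ : Cyc.HasRelDim h' r')
    (w₁ : h ≫ s.g = t.g) (w₂ : h' ≫ s.f' = t.f' ≫ h) (w₃ : h' ≫ s.g' = t.g') (k : ℤ) :
    Bivar.PullOK s.δY' s.δX' t.δY' t.δX' h h' (r' : ℤ) (flatOp δX δY hX hY f r hr hδ s k)
      (flatOp δX δY hX hY f r hr hδ t (k + r')) := by
  haveI := noeth_X' hX.1 s
  haveI := noeth_X' hX.1 t
  haveI := flat_f' s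
  haveI := flat_f' t
  haveI := lft_f' s
  haveI := lft_f' t
  haveI := s.lft
  haveI := t.lft
  haveI := lft_g' s
  haveI := lft_g' t
  haveI : LocallyOfFiniteType (h ≫ s.g) := by rw [w₁]; infer_instance
  haveI : LocallyOfFiniteType h := locallyOfFiniteType_of_comp h s.g
  haveI : LocallyOfFiniteType (h' ≫ s.g') := by rw [w₃]; infer_instance
  haveI : LocallyOfFiniteType h' := locallyOfFiniteType_of_comp h' s.g'
  intro α hα
  refine ⟨pullCycle s.f' s.δX' s.δY' (r : ℤ) α,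
    pullCycle_mem s.f' s.δX' s.δY' (r : ℤ) k _ (by ring) α hα,
    flatOp_cl δX δY hX hY f r hr hδ s k α hα, ?_⟩
  intro α₁ hα₁c hα₁
  refine ⟨pullCycle t.f' t.δX' t.δY' (r : ℤ) α₁,
    pullCycle_mem t.f' t.δX' t.δY' (r : ℤ) (k + r') _ (by ring) α₁ hα₁, ?_,
    flatOp_cl δX δY hX hY f r hr hδ t (k + r') α₁ hα₁⟩
  rw [coe_pullCycle, coe_pullCycle, hα₁c,
    pullFun_comp t.δX' t.δY' s.δY' t.f' h r r' (relDim_f' r hr t) hr₁ (compat_f' hδ t)
      (compat_h s t h w₁) ⇑α,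
    pullFun_comp t.δX' s.δX' s.δY' h' s.f' r' r hr₂ (relDim_f' r hr s) (compat_h' s t h' w₃)
      (compat_f' hδ s) ⇑α, w₂, add_comm]

end cls

section gysinprep

variable {X : Scheme.{u}}

/-- `c_1(L) ∩ β` of a cycle of weight `m` is supported in weight `m - 1`. -/
theorem c1CapFun_eq_zero_of_delta_ne (δ : X → ℤ) (L : X.Modules) (β : X → ℤ) (m : ℤ)
    (hβ : ∀ ξ, δ ξ ≠ m → β ξ = 0) (s : (ξ : X) → Cyc.secFibre L ξ) (x : X)
    (hx : δ x ≠ m - 1) : Cyc.c1CapFun δ L β s x = 0 := by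
  show ∑ᶠ ξ : X, β ξ * Cyc.secDivFun δ L ξ (s ξ) x = 0
  apply finsum_eq_zero_of_forall_eq_zero
  intro ξ
  by_cases hξ : δ ξ = m
  · have : Cyc.secDivFun δ L ξ (s ξ) x = 0 := by
      unfold Cyc.secDivFun
      rw [dif_neg]
      rintro ⟨-, h2⟩
      apply hx
      omega
    rw [this, mul_zero]
  · rw [hβ ξ hξ, zero_mul]

/-- The Gysin coefficient function along a closed immersion, as a cycle. -/
noncomputable def gysinCycle [IsLocallyNoetherian X] {E : Scheme.{u}} (j : E ⟶ X)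
    [IsClosedImmersion j] (δ : X → ℤ) (hδ : Cyc.IsDimFun X δ) (M : X.Modules)
    (hM : PicF.IsInvertible M) (β : AlgebraicCycle X ℤ) (u : (ξ : X) → Cyc.secFibre M ξ)
    (hu : ∀ ξ, u ξ ≠ 0) : AlgebraicCycle E ℤ :=
  { toFun := fun e => Cyc.c1CapFun δ M ⇑β u (j e)
    supportWithinDomain' := Set.subset_univ _
    supportLocallyFiniteWithinDomain' := fun y _ =>
      locallyFiniteSupport_comp_of_injective j j.isClosedEmbedding.injective _
        (locallyFiniteSupport_c1CapFun M hM δ hδ ⇑β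
          (fun z => β.supportLocallyFiniteWithinDomain z (Set.mem_univ z)) u hu) y }

theorem gysinCycle_apply [IsLocallyNoetherian X] {E : Scheme.{u}} (j : E ⟶ X)
    [IsClosedImmersion j] (δ : X → ℤ) (hδ : Cyc.IsDimFun X δ) (M : X.Modules)
    (hM : PicF.IsInvertible M) (β : AlgebraicCycle X ℤ) (u : (ξ : X) → Cyc.secFibre M ξ)
    (hu : ∀ ξ, u ξ ≠ 0) (e : E) :
    gysinCycle j δ hδ M hM β u hu e = Cyc.c1CapFun δ M ⇑β u (j e) := rfl

/-- Along a closed immersion the induced dimension function is the restriction. -/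
theorem delta_eq_comp_of_isClosedImmersion {E : Scheme.{u}} (j : E ⟶ X) [IsClosedImmersion j]
    (δE : E → ℤ) (δ : X → ℤ) (h : Cyc.DeltaCompat j δE δ) : δE = fun e => δ (j e) := by
  funext e
  exact delta_eq_of_surjective j δE δ h e
    (residueFieldMap_bijective_of_surjective j e (j.stalkMap_surjective e)).2

/-- The core of the Gysin compatibility of flat pullback, with free dimension functions. -/
theorem gysin_core {S S' D E : Scheme.{u}} {f : S' ⟶ S} {i : D ⟶ S} {j : E ⟶ S'} {g : E ⟶ D}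
    (sq : IsPullback j g f i) [IsClosedImmersion i] [IsClosedImmersion j]
    [IsLocallyNoetherian S] [IsLocallyNoetherian S'] [IsLocallyNoetherian E] [Flat f]
    [LocallyOfFiniteType f] (δ : S → ℤ) (δ' : S' → ℤ) (δD : D → ℤ) (δE : E → ℤ)
    (eD : δD = fun d => δ (i d)) (eE : δE = fun z => δ' (j z))
    (hdim : Cyc.IsDimFun S δ) (hdim' : Cyc.IsDimFun S' δ') (r : ℕ) (hr : Cyc.HasRelDim f r)
    (hδ : Cyc.DeltaCompat f δ' δ) (L : S.Modules) (hL : PicF.IsInvertible L)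
    (σ : L.presheaf.obj (Opposite.op ⊤)) (hσ : Cyc.IsZeroSchemeOf i L σ)
    (τ : ((Scheme.Modules.pullback f).obj L).presheaf.obj (Opposite.op ⊤))
    (hτ : Cyc.IsZeroSchemeOf j ((Scheme.Modules.pullback f).obj L) τ)
    (k l : ℤ) (e : k - 1 + (r : ℤ) = l) (α : AlgebraicCycle S ℤ) (hα : α ∈ Cyc.Zk S δ k)
    (w : (ξ : S) → Cyc.secFibre L ξ) (hw : ∀ ξ, w ξ ≠ 0)
    (w' : (ξ : S') → Cyc.secFibre ((Scheme.Modules.pullback f).obj L) ξ) (hw' : ∀ ξ, w' ξ ≠ 0)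
    (γ : AlgebraicCycle D ℤ)
    (hγc : ∀ d, γ d = Cyc.c1CapFun δ L ⇑α (Cyc.gysinChoice L σ w) (i d))
    (ζ : AlgebraicCycle E ℤ)
    (hζ : ∀ z, ζ z = Cyc.c1CapFun δ' ((Scheme.Modules.pullback f).obj L)
      (Cyc.pullFun f δ' δ r ⇑α)
      (Cyc.gysinChoice ((Scheme.Modules.pullback f).obj L) τ w') (j z)) :
    Cyc.RatEquiv δE l ζ (pullCycle g δE δD (r : ℤ) γ) := by
  subst eD eE e
  have hα' : α ∈ Cyc.Zk S δ (k - 1 + 1) := by
    have : k - 1 + 1 = k := by ring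
    rw [this]; exact hα
  refine gysin_pullFun_ratEquiv_sq sq δ δ' hdim hdim' r hr hδ L hL σ hσ τ hτ (k - 1) α hα'
    w hw w' hw' ζ _ hζ ?_
  rw [coe_pullCycle]
  congr 1
  funext d
  exact hγc d

end gysinprep

section cls2

variable {X Y : Scheme.{u}} (δX : X → ℤ) (δY : Y → ℤ) (hX : Cyc.IsSetup X δX)
  (hY : Cyc.IsSetup Y δY) (f : X ⟶ Y) [Flat f] [LocallyOfFiniteType f] (r : ℕ)
  (hr : Cyc.HasRelDim f r) (hδ : Cyc.DeltaCompat f δX δY)

include hX hY hr hδ in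
theorem flat_gysin (s t : Bivar.Sq f δX δY) (i : t.Y' ⟶ s.Y') [IsClosedImmersion i]
    (j : t.X' ⟶ s.X') [IsClosedImmersion j] (w₁ : i ≫ s.g = t.g) (w₂ : j ≫ s.f' = t.f' ≫ i)
    (w₃ : j ≫ s.g' = t.g') (L : s.Y'.Modules) (hL : PicF.IsInvertible L)
    (σ : L.presheaf.obj (Opposite.op ⊤)) (hσ : Cyc.IsZeroSchemeOf i L σ)
    (τ : ((Scheme.Modules.pullback s.f').obj L).presheaf.obj (Opposite.op ⊤))
    (hτ : Cyc.IsZeroSchemeOf j ((Scheme.Modules.pullback s.f').obj L) τ) (k : ℤ) :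
    Bivar.GysinOK s.δY' t.δY' s.δX' t.δX' i L σ j ((Scheme.Modules.pullback s.f').obj L) τ
      (flatOp δX δY hX hY f r hr hδ s k) (flatOp δX δY hX hY f r hr hδ t (k - 1)) := by
  haveI := noeth_X' hX.1 s
  haveI := noeth_X' hX.1 t
  haveI := noeth_Y' hY.1 s
  haveI := noeth_Y' hY.1 t
  haveI := flat_f' s
  haveI := flat_f' t
  haveI := lft_f' s
  haveI := lft_f' t
  have hM : PicF.IsInvertible ((Scheme.Modules.pullback s.f').obj L) :=
    Groth.Agent.Lib.Helper28.PullbackInv.isInvertible_pullback s.f' hL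
  have eD : t.δY' = fun d => s.δY' (i d) :=
    delta_eq_comp_of_isClosedImmersion i t.δY' s.δY' (compat_h s t i w₁)
  have eE : t.δX' = fun z => s.δX' (j z) :=
    delta_eq_comp_of_isClosedImmersion j t.δX' s.δX' (compat_h' s t j w₃)
  intro α hα
  refine ⟨pullCycle s.f' s.δX' s.δY' (r : ℤ) α,
    pullCycle_mem s.f' s.δX' s.δY' (r : ℤ) k _ (by ring) α hα,
    flatOp_cl δX δY hX hY f r hr hδ s k α hα, ?_⟩
  intro w hw γ hγc hγ w' hw'
  have hβ : pullCycle s.f' s.δX' s.δY' (r : ℤ) α ∈ Cyc.Zk s.X' s.δX' (k + r) :=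
    pullCycle_mem s.f' s.δX' s.δY' (r : ℤ) k _ rfl α hα
  have hζmem : gysinCycle j s.δX' (dim_X' hX s) _ hM (pullCycle s.f' s.δX' s.δY' (r : ℤ) α)
      (Cyc.gysinChoice _ τ w') (gysinChoice_ne_zero _ τ w' hw') ∈
      Cyc.Zk t.X' t.δX' (k - 1 - -(r : ℤ)) := by
    intro z hz
    rw [gysinCycle_apply]
    apply c1CapFun_eq_zero_of_delta_ne s.δX' _ _ (k + r) (fun ξ hξ => hβ ξ hξ)
    intro h0
    apply hz
    rw [eE]
    show s.δX' (j z) = _
    rw [h0]; ring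
  refine ⟨_, hζmem, fun e => gysinCycle_apply _ _ _ _ _ _ _ _ e, ?_⟩
  rw [flatOp_cl]
  symm
  apply cl_eq_of_ratEquiv
  exact gysin_core ((isPullback_of_sq s t i j w₁ w₂ w₃).flip) s.δY' s.δX' t.δY' t.δX' eD eE
    (dim_Y' hY s) (dim_X' hX s) r (relDim_f' r hr s) (compat_f' hδ s) L hL σ hσ τ hτ k _
    (by ring) α hα w hw w' hw' γ hγc _ (fun e => gysinCycle_apply _ _ _ _ _ _ _ _ e)

/-- The flat pullback class. -/
noncomputable def flatCl : Bivar.Cl (-(r : ℤ)) f δX δY where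
  op := flatOp δX δY hX hY f r hr hδ
  push := fun s t h _ h' _ w₁ w₂ w₃ k => flat_push δX δY hX hY f r hr hδ s t h h' w₁ w₂ w₃ k
  pull := fun s t h _ h' _ r' hr₁ hr₂ w₁ w₂ w₃ k =>
    flat_pull δX δY hX hY f r hr hδ s t h h' r' hr₁ hr₂ w₁ w₂ w₃ k
  gysin := fun s t i _ j _ w₁ w₂ w₃ L hL σ hσ τ hτ k =>
    flat_gysin δX δY hX hY f r hr hδ s t i j w₁ w₂ w₃ L hL σ hσ τ hτ k

theorem isFlatPullClass_flatCl :
    Bivar.IsFlatPullClass f r (flatCl δX δY hX hY f r hr hδ) := by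
  refine ⟨inferInstance, inferInstance, hr, hδ, ?_⟩
  intro s k α hα α₁ hc hα₁
  haveI := noeth_X' hX.1 s
  show flatOp δX δY hX hY f r hr hδ s k (ChowOps.cl α hα) = _
  rw [flatOp_cl]
  apply Bivar.cl_congr
  ext x
  rw [hc]
  rfl

end cls2

end Groth.Agent.Lib.Helper18.BivarFlat
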