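import Mathlib
import Groth.Prelude.Def_Bivar2
import Groth.Agent.Lib.Helper18.Bivar.FlatPull
import Groth.Agent.Lib.Helper18.Cyc.GysinC1
import Groth.Agent.Lib.Helper18.Cyc.ModIso
import Groth.Agent.Lib.Helper18.Cyc.C1Pull
import Groth.Agent.Lib.Helper18.Push.ProjFormula

/-!
# The operational class `c_1(L) ∈ A^1(X)`
-/

set_option autoImplicit false
set_option maxHeartbeats 1000000
set_option linter.style.haveILetI false
universe u
open AlgebraicGeometry CategoryTheory Limits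

namespace Groth.Agent.Lib.Helper18.BivarC1

open Groth.Agent.Lib.Helper18.BivarEnv Groth.Agent.Lib.Helper18.Push
open Groth.Agent.Lib.Helper18.CycDiv Groth.Agent.Lib.Helper18.CycPull
open Groth.Agent.Lib.Helper18.C1Core Groth.Agent.Lib.Helper18.BivarFlat
open Groth.Agent.Lib.Helper18.KeyGeo Groth.Agent.Lib.Helper18.ModIso
open Groth.Agent.Lib.Helper28.PullbackInv

section basic

variable {Y : Scheme.{u}} [IsLocallyNoetherian Y] (δ : Y → ℤ) (hδ : Cyc.IsDimFun Y δ)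
  (M : Y.Modules) (hM : PicF.IsInvertible M)

/-- `c_1(M) ∩ α` as a cycle -/
noncomputable def c1Cycle (α : AlgebraicCycle Y ℤ) (v : (ξ : Y) → Cyc.secFibre M ξ)
    (hv : ∀ ξ, v ξ ≠ 0) : AlgebraicCycle Y ℤ :=
  { toFun := Cyc.c1CapFun δ M ⇑α v
    supportWithinDomain' := Set.subset_univ _
    supportLocallyFiniteWithinDomain' := fun y _ =>
      locallyFiniteSupport_c1CapFun M hM δ hδ ⇑α
        (fun z => α.supportLocallyFiniteWithinDomain z (Set.mem_univ z)) v hv y }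

theorem coe_c1Cycle (α : AlgebraicCycle Y ℤ) (v : (ξ : Y) → Cyc.secFibre M ξ)
    (hv : ∀ ξ, v ξ ≠ 0) : ⇑(c1Cycle δ hδ M hM α v hv) = Cyc.c1CapFun δ M ⇑α v := rfl

theorem c1Cycle_mem {k l : ℤ} (e : l + 1 = k) (α : AlgebraicCycle Y ℤ) (hα : α ∈ Cyc.Zk Y δ k)
    (v : (ξ : Y) → Cyc.secFibre M ξ) (hv : ∀ ξ, v ξ ≠ 0) :
    c1Cycle δ hδ M hM α v hv ∈ Cyc.Zk Y δ l := by
  intro x hx
  show Cyc.c1CapFun δ M ⇑α v x = 0
  apply c1CapFun_eq_zero_of_delta_ne δ M ⇑α k (fun ξ hξ => hα ξ hξ) v x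
  intro h
  apply hx
  rw [h, ← e]
  ring

include hδ hM in
/-- any two computations of `c_1(M) ∩ α` are rationally equivalent -/
theorem ratEquiv_c1 {k l : ℤ} (e : l + 1 = k) (α : AlgebraicCycle Y ℤ) (hα : α ∈ Cyc.Zk Y δ k)
    (v v' : (ξ : Y) → Cyc.secFibre M ξ) (hv : ∀ ξ, v ξ ≠ 0) (hv' : ∀ ξ, v' ξ ≠ 0)
    (γ γ' : AlgebraicCycle Y ℤ) (hγ : ⇑γ = Cyc.c1CapFun δ M ⇑α v)
    (hγ' : ⇑γ' = Cyc.c1CapFun δ M ⇑α v') : Cyc.RatEquiv δ l γ γ' := by
  refine ratEquivZero_c1CapFun_sub M hM δ hδ l ⇑α ?_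
    (fun z => α.supportLocallyFiniteWithinDomain z (Set.mem_univ z)) v v' hv hv' (γ - γ') ?_
  · intro ξ hξ
    by_contra hne
    apply hξ
    apply hα
    rw [← e]
    exact hne
  · intro x
    show γ x - γ' x = _
    rw [hγ, hγ']

/-- `c_1(M) ∩ -` on cycles of fixed weight, computed with the chosen generators -/
noncomputable def c1Zk (k l : ℤ) (e : l + 1 = k) : ↥(ChowOps.zk Y δ k) →+ ↥(ChowOps.zk Y δ l) where
  toFun a := ⟨c1Cycle δ hδ M hM a.1 (genSec M hM) (genSec_ne_zero M hM),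
    c1Cycle_mem δ hδ M hM e a.1 a.2 _ _⟩
  map_zero' := by
    apply Subtype.ext
    ext x
    show Cyc.c1CapFun δ M ⇑(0 : AlgebraicCycle Y ℤ) (genSec M hM) x = 0
    rw [Function.locallyFinsuppWithin.coe_zero, Bivar.c1CapFun_zero]
    rfl
  map_add' a b := by
    apply Subtype.ext
    ext x
    show Cyc.c1CapFun δ M ⇑(a.1 + b.1) (genSec M hM) x = _
    rw [Function.locallyFinsuppWithin.coe_add, Bivar.c1CapFun_add]
    rfl

/-- `c_1(M) ∩ -` on Chow groups -/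
noncomputable def c1CH (k l : ℤ) (e : l + 1 = k) : ChowOps.CH Y δ k →+ ChowOps.CH Y δ l :=
  QuotientAddGroup.map (ChowOps.ratTriv Y δ k) (ChowOps.ratTriv Y δ l)
    (c1Zk δ hδ M hM k l e) (by
      unfold ChowOps.ratTriv
      rw [AddSubgroup.closure_le]
      intro a ha
      apply AddSubgroup.subset_closure
      have ha' : Cyc.RatEquivZero δ (l + 1) a.1 := by rw [e]; exact ha
      exact c1Cap_ratEquivZero δ hδ M hM l a.1 ha' (genSec M hM) (genSec_ne_zero M hM) _ rfl)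

theorem c1CH_cl (k l : ℤ) (e : l + 1 = k) (α : AlgebraicCycle Y ℤ) (hα : α ∈ Cyc.Zk Y δ k) :
    c1CH δ hδ M hM k l e (ChowOps.cl α hα) =
      ChowOps.cl (c1Cycle δ hδ M hM α (genSec M hM) (genSec_ne_zero M hM))
        (c1Cycle_mem δ hδ M hM e α hα _ _) := rfl

/-- the class of `c_1(M) ∩ α` computed with any sections -/
theorem c1CH_cl_eq (k l : ℤ) (e : l + 1 = k) (α : AlgebraicCycle Y ℤ) (hα : α ∈ Cyc.Zk Y δ k)
    (v : (ξ : Y) → Cyc.secFibre M ξ) (hv : ∀ ξ, v ξ ≠ 0) (γ : AlgebraicCycle Y ℤ)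
    (hγ : ⇑γ = Cyc.c1CapFun δ M ⇑α v) (hγm : γ ∈ Cyc.Zk Y δ l) :
    c1CH δ hδ M hM k l e (ChowOps.cl α hα) = ChowOps.cl γ hγm := by
  rw [c1CH_cl]
  apply cl_eq_of_ratEquiv
  exact ratEquiv_c1 δ hδ M hM e α hα _ v (genSec_ne_zero M hM) hv _ γ rfl hγ

end basic

section compat

variable {T S : Scheme.{u}} [IsLocallyNoetherian T] [IsLocallyNoetherian S]

theorem ratEquiv_symm {X : Scheme.{u}} {δ : X → ℤ} {k : ℤ} (a b : AlgebraicCycle X ℤ)
    (h : Cyc.RatEquiv δ k a b) : Cyc.RatEquiv δ k b a := by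
  unfold Cyc.RatEquiv at *
  have := (ratPres_of_ratEquivZero _ h).neg
  refine RatPres.ratEquivZero (b - a) (this.congr fun x => ?_)
  show -(a x - b x) = b x - a x
  ring

/-- sections of `h^*M` transported from sections of an isomorphic module -/
noncomputable def transSec {Y : Scheme.{u}} {M M' : Y.Modules} (φ : M ≅ M')
    (u' : (ξ : Y) → Cyc.secFibre M' ξ) : (ξ : Y) → Cyc.secFibre M ξ :=
  fun ξ => (fibreEquiv φ ξ).symm (u' ξ)

theorem transSec_ne_zero {Y : Scheme.{u}} {M M' : Y.Modules} (φ : M ≅ M')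
    (u' : (ξ : Y) → Cyc.secFibre M' ξ) (hu' : ∀ ξ, u' ξ ≠ 0) (ξ : Y) : transSec φ u' ξ ≠ 0 :=
  fun h => hu' ξ ((fibreEquiv φ ξ).symm.map_eq_zero_iff.1 h)

theorem c1CapFun_transSec {Y : Scheme.{u}} [IsLocallyNoetherian Y] (δ : Y → ℤ)
    (hδ : Cyc.IsDimFun Y δ) {M M' : Y.Modules} (hM : PicF.IsInvertible M)
    (hM' : PicF.IsInvertible M') (φ : M ≅ M') (α : Y → ℤ)
    (u' : (ξ : Y) → Cyc.secFibre M' ξ) (hu' : ∀ ξ, u' ξ ≠ 0) :
    Cyc.c1CapFun δ M α (transSec φ u') = Cyc.c1CapFun δ M' α u' := by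
  rw [← c1CapFun_fibreEquiv δ hδ hM hM' φ α (transSec φ u') (transSec_ne_zero φ u' hu')]
  congr 1
  funext ξ
  exact (fibreEquiv φ ξ).apply_symm_apply (u' ξ)

/-- projection formula, with a module isomorphic to the pullback -/
theorem c1_push (h : T ⟶ S) [IsProper h] (δT : T → ℤ) (δS : S → ℤ) (hdT : Cyc.IsDimFun T δT)
    (hdS : Cyc.IsDimFun S δS) (hδ : Cyc.DeltaCompat h δT δS) (M : S.Modules)
    (hM : PicF.IsInvertible M) (M' : T.Modules) (hM' : PicF.IsInvertible M')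
    (φ : (Scheme.Modules.pullback h).obj M ≅ M') (k l : ℤ) (e : l + 1 = k)
    (α : AlgebraicCycle T ℤ) (hα : α ∈ Cyc.Zk T δT k)
    (u' : (ξ : T) → Cyc.secFibre M' ξ) (hu' : ∀ ξ, u' ξ ≠ 0)
    (v : (η : S) → Cyc.secFibre M η) (hv : ∀ η, v η ≠ 0) :
    Cyc.RatEquiv δS l (c1Cycle δS hdS M hM (AlgebraicCycle.map h δT δS α) v hv)
      (AlgebraicCycle.map h δT δS (c1Cycle δT hdT M' hM' α u' hu')) := by
  have hMh : PicF.IsInvertible ((Scheme.Modules.pullback h).obj M) := isInvertible_pullback h hM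
  apply ratEquiv_symm
  have hα' : α ∈ Cyc.Zk T δT (l + 1) := by rw [e]; exact hα
  exact map_c1Cap_pullbackMod_ratEquiv h δT δS hdT hdS hδ M hM l α hα' (transSec φ u')
    (transSec_ne_zero φ u' hu') v hv _
    (by rw [coe_c1Cycle, c1CapFun_transSec δT hdT hMh hM' φ ⇑α u' hu']) _ rfl

/-- flat pullback commutes with `c_1`, with a module isomorphic to the pullback -/
theorem c1_pull (h : T ⟶ S) [Flat h] [LocallyOfFiniteType h] (δT : T → ℤ) (δS : S → ℤ)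
    (hdT : Cyc.IsDimFun T δT) (hdS : Cyc.IsDimFun S δS) (r : ℕ) (hr : Cyc.HasRelDim h r)
    (hδ : Cyc.DeltaCompat h δT δS) (M : S.Modules)
    (hM : PicF.IsInvertible M) (M' : T.Modules) (hM' : PicF.IsInvertible M')
    (φ : (Scheme.Modules.pullback h).obj M ≅ M') (k l : ℤ) (e : k + r - 1 = l)
    (α : AlgebraicCycle S ℤ) (hα : α ∈ Cyc.Zk S δS k)
    (v : (η : S) → Cyc.secFibre M η) (hv : ∀ η, v η ≠ 0)
    (u' : (ξ : T) → Cyc.secFibre M' ξ) (hu' : ∀ ξ, u' ξ ≠ 0) (γ₁ γ₂ : AlgebraicCycle T ℤ)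
    (h₁ : ⇑γ₁ = Cyc.pullFun h δT δS r (Cyc.c1CapFun δS M ⇑α v))
    (h₂ : ⇑γ₂ = Cyc.c1CapFun δT M' (Cyc.pullFun h δT δS r ⇑α) u') :
    Cyc.RatEquiv δT l γ₁ γ₂ := by
  classical
  subst e
  have hMh : PicF.IsInvertible ((Scheme.Modules.pullback h).obj M) := isInvertible_pullback h hM
  have hαlf : LocallyFiniteSupport ⇑α :=
    fun z => α.supportLocallyFiniteWithinDomain z (Set.mem_univ z)
  rw [← c1CapFun_transSec δT hdT hMh hM' φ _ u' hu'] at h₂
  unfold Cyc.RatEquiv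
  refine ratEquivZero_c1CapFun_sub _ hMh δT hdT (k + r - 1) (Cyc.pullFun h δT δS r ⇑α) ?_
    (locallyFiniteSupport_pullFun h δT δS r α)
    (fun ξ' => pullSec h M ξ' (v (h ξ'))) (transSec φ u')
    (fun ξ' => pullSec_ne_zero h hM ξ' _ (hv _)) (transSec_ne_zero φ u' hu')
    (γ₁ - γ₂) ?_
  · intro ξ hξ
    unfold Cyc.pullFun at hξ
    have h1 : δT ξ = δS (h ξ) + r := by
      by_contra hc
      exact hξ (if_neg hc)
    rw [if_pos h1] at hξ
    have h2 : α (h ξ) ≠ 0 := left_ne_zero_of_mul hξ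
    have h3 : δS (h ξ) = k := by
      by_contra hc
      exact h2 (hα (h ξ) hc)
    rw [h1, h3]
    ring
  · intro x
    rw [Function.locallyFinsuppWithin.coe_sub, Pi.sub_apply, h₁, h₂]
    congr 1
    exact pullFun_c1CapFun h δT δS hdT hdS r
      (fun ξ g hg x => pullFun_divFun_gen h δT δS hdT hdS r hr hδ ξ g hg x)
      (fun ξ ξ' => delta_fibIdx h δT δS r hr hδ ξ')
      (fun x hx => isMax_fibre_of_delta h δT δS hdT r hr hδ x hx)
      M hM ⇑α hαlf v hv x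

/-- Gysin maps commute with `c_1`, with a module isomorphic to the pullback -/
theorem c1_gysin {D : Scheme.{u}} [IsLocallyNoetherian D] (i : D ⟶ S) [IsClosedImmersion i]
    (δS : S → ℤ) (hdS : Cyc.IsDimFun S δS) (δD : D → ℤ) (eD : δD = fun d => δS (i d))
    (L' : S.Modules) (hL' : PicF.IsInvertible L') (σ : L'.presheaf.obj (Opposite.op ⊤))
    (hσ : Cyc.IsZeroSchemeOf i L' σ) (M : S.Modules) (hM : PicF.IsInvertible M)
    (M' : D.Modules) (hM' : PicF.IsInvertible M')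
    (φ : (Scheme.Modules.pullback i).obj M ≅ M') (k l : ℤ) (e : k - 2 = l)
    (α : AlgebraicCycle S ℤ) (hα : α ∈ Cyc.Zk S δS k)
    (w : (ξ : S) → Cyc.secFibre L' ξ) (hw : ∀ ξ, w ξ ≠ 0)
    (v : (η : S) → Cyc.secFibre M η) (hv : ∀ η, v η ≠ 0)
    (u' : (ξ : D) → Cyc.secFibre M' ξ) (hu' : ∀ ξ, u' ξ ≠ 0)
    (β : AlgebraicCycle S ℤ) (hβ : ⇑β = Cyc.c1CapFun δS M ⇑α v)
    (γ : AlgebraicCycle D ℤ)
    (hγc : ∀ d, γ d = Cyc.c1CapFun δS L' ⇑α (Cyc.gysinChoice L' σ w) (i d))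
    (ζ ζ' : AlgebraicCycle D ℤ)
    (hζ : ∀ d, ζ d = Cyc.c1CapFun δS L' ⇑β (Cyc.gysinChoice L' σ w) (i d))
    (hζ' : ⇑ζ' = Cyc.c1CapFun δD M' ⇑γ u') :
    Cyc.RatEquiv δD l ζ' ζ := by
  subst eD e
  have hMi : PicF.IsInvertible ((Scheme.Modules.pullback i).obj M) := isInvertible_pullback i hM
  have hdD : Cyc.IsDimFun D (fun d => δS (i d)) := isDimFun_comp_of_isClosedImmersion i δS hdS
  apply ratEquiv_symm
  refine gysin_c1Cap δS hdS L' M hL' hM σ i hσ k α hα w hw v hv (transSec φ u')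
    (transSec_ne_zero φ u' hu') β hβ ⇑γ (funext hγc) ζ ζ' hζ ?_
  rw [hζ', c1CapFun_transSec _ hdD hMi hM' φ ⇑γ u' hu']

end compat

section cls

variable {X : Scheme.{u}} (δX : X → ℤ) (hX : Cyc.IsSetup X δX) (L : X.Modules)
  (hL : PicF.IsInvertible L)

include hX in
theorem noeth (s : Bivar.OSq X δX) : IsLocallyNoetherian s.Y :=
  haveI := s.lft
  haveI := hX.1
  LocallyOfFiniteType.isLocallyNoetherian s.g

include hX in
theorem dimf (s : Bivar.OSq X δX) : Cyc.IsDimFun s.Y s.δ :=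
  haveI := s.lft
  Groth.Agent.Lib.lead.DimFunPullback.main s.g δX hX s.δ s.compat

include hL in
theorem invM (s : Bivar.OSq X δX) : PicF.IsInvertible ((Scheme.Modules.pullback s.g).obj L) :=
  isInvertible_pullback s.g hL

theorem lft_h (s t : Bivar.OSq X δX) (h : t.Y ⟶ s.Y) (w : h ≫ s.g = t.g) :
    LocallyOfFiniteType h := by
  haveI := s.lft
  haveI := t.lft
  haveI : LocallyOfFiniteType (h ≫ s.g) := by rw [w]; infer_instance
  exact locallyOfFiniteType_of_comp h s.g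

theorem compat_hO (s t : Bivar.OSq X δX) (h : t.Y ⟶ s.Y) (w : h ≫ s.g = t.g) :
    Cyc.DeltaCompat h t.δ s.δ := by
  haveI := s.lft
  haveI := lft_h δX s t h w
  exact deltaCompat_cancel h s.g t.δ s.δ δX (by rw [w]; exact t.compat) s.compat

/-- the comparison isomorphism of pulled back modules along a morphism of test schemes -/
noncomputable def isoOf (s t : Bivar.OSq X δX) (h : t.Y ⟶ s.Y) (w : h ≫ s.g = t.g) :
    (Scheme.Modules.pullback h).obj ((Scheme.Modules.pullback s.g).obj L) ≅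
      (Scheme.Modules.pullback t.g).obj L :=
  (Scheme.Modules.pullbackComp h s.g).app L ≪≫ (Scheme.Modules.pullbackCongr w).app L

/-- the operation of `c_1(L)` -/
noncomputable def c1Op (s : Bivar.OSq X δX) (k : ℤ) :
    ChowOps.CH s.Y s.δ k →+ ChowOps.CH s.Y s.δ (k - 1) :=
  haveI := noeth δX hX s
  c1CH s.δ (dimf δX hX s) _ (invM δX L hL s) k (k - 1) (by ring)

theorem c1Op_cl (s : Bivar.OSq X δX) (k : ℤ) (α : AlgebraicCycle s.Y ℤ)
    (hα : α ∈ Cyc.Zk s.Y s.δ k) :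
    haveI := noeth δX hX s
    c1Op δX hX L hL s k (ChowOps.cl α hα) =
      ChowOps.cl (c1Cycle s.δ (dimf δX hX s) _ (invM δX L hL s) α (genSec _ (invM δX L hL s))
        (genSec_ne_zero _ (invM δX L hL s)))
        (c1Cycle_mem s.δ (dimf δX hX s) _ (invM δX L hL s) (by ring) α hα _ _) := rfl

theorem c1_pushOK (s t : Bivar.OSq X δX) (h : t.Y ⟶ s.Y) [IsProper h] (w : h ≫ s.g = t.g)
    (k : ℤ) : Bivar.PushOK t.δ t.δ s.δ s.δ h h (c1Op δX hX L hL t k) (c1Op δX hX L hL s k) := by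
  haveI := noeth δX hX s
  haveI := noeth δX hX t
  intro α hα
  refine ⟨_, _, c1Op_cl δX hX L hL t k α hα, ?_⟩
  rw [c1Op_cl]
  apply cl_eq_of_ratEquiv
  exact c1_push h t.δ s.δ (dimf δX hX t) (dimf δX hX s) (compat_hO δX s t h w) _
    (invM δX L hL s) _ (invM δX L hL t) (isoOf δX L s t h w) k (k - 1) (by ring) α hα _ _ _ _

theorem c1_pullOK (s t : Bivar.OSq X δX) (h : t.Y ⟶ s.Y) [Flat h] (r : ℕ)
    (hr : Cyc.HasRelDim h r) (w : h ≫ s.g = t.g) (k : ℤ) :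
    Bivar.PullOK s.δ s.δ t.δ t.δ h h (r : ℤ) (c1Op δX hX L hL s k)
      (c1Op δX hX L hL t (k + r)) := by
  haveI := noeth δX hX s
  haveI := noeth δX hX t
  haveI := lft_h δX s t h w
  intro α hα
  refine ⟨_, _, c1Op_cl δX hX L hL s k α hα, ?_⟩
  intro α₁ hα₁c hα₁
  have hβ₁ : pullCycle h t.δ s.δ (r : ℤ)
      (c1Cycle s.δ (dimf δX hX s) _ (invM δX L hL s) α (genSec _ (invM δX L hL s))
        (genSec_ne_zero _ (invM δX L hL s))) ∈ Cyc.Zk t.Y t.δ (k + r - 1) :=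
    pullCycle_mem h t.δ s.δ (r : ℤ) (k - 1) _ (by ring) _
      (c1Cycle_mem s.δ (dimf δX hX s) _ (invM δX L hL s) (by ring) α hα _ _)
  refine ⟨_, hβ₁, rfl, ?_⟩
  rw [c1Op_cl]
  apply cl_eq_of_ratEquiv
  apply ratEquiv_symm
  exact c1_pull h t.δ s.δ (dimf δX hX t) (dimf δX hX s) r hr (compat_hO δX s t h w) _
    (invM δX L hL s) _ (invM δX L hL t) (isoOf δX L s t h w) k _ rfl α hα _
    (genSec_ne_zero _ (invM δX L hL s)) _ (genSec_ne_zero _ (invM δX L hL t)) _ _ rfl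
    (by rw [coe_c1Cycle, hα₁c])

theorem c1_gysinOK (s t : Bivar.OSq X δX) (i : t.Y ⟶ s.Y) [IsClosedImmersion i]
    (w : i ≫ s.g = t.g) (L' : s.Y.Modules) (hL' : PicF.IsInvertible L')
    (σ : L'.presheaf.obj (Opposite.op ⊤)) (hσ : Cyc.IsZeroSchemeOf i L' σ) (k : ℤ) :
    Bivar.GysinOK₁ s.δ t.δ i L' σ (c1Op δX hX L hL s k) (c1Op δX hX L hL t (k - 1)) := by
  haveI := noeth δX hX s
  haveI := noeth δX hX t
  have eD : t.δ = fun d => s.δ (i d) :=
    delta_eq_comp_of_isClosedImmersion i t.δ s.δ (compat_hO δX s t i w)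
  intro α hα
  have hβmem := c1Cycle_mem s.δ (dimf δX hX s) _ (invM δX L hL s) (k := k) (l := k - 1)
    (by ring) α hα (genSec _ (invM δX L hL s)) (genSec_ne_zero _ (invM δX L hL s))
  refine ⟨_, hβmem, c1Op_cl δX hX L hL s k α hα, ?_⟩
  intro w' hw' γ hγc hγ
  have hζmem : gysinCycle i s.δ (dimf δX hX s) L' hL'
      (c1Cycle s.δ (dimf δX hX s) _ (invM δX L hL s) α (genSec _ (invM δX L hL s))
        (genSec_ne_zero _ (invM δX L hL s)))
      (Cyc.gysinChoice L' σ w') (gysinChoice_ne_zero L' σ w' hw') ∈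
      Cyc.Zk t.Y t.δ (k - 1 - 1) := by
    intro z hz
    rw [gysinCycle_apply]
    apply c1CapFun_eq_zero_of_delta_ne s.δ _ _ (k - 1) (fun ξ hξ => hβmem ξ hξ)
    intro h0
    apply hz
    rw [eD]
    exact h0
  refine ⟨_, hζmem, fun e => gysinCycle_apply _ _ _ _ _ _ _ _ e, ?_⟩
  rw [c1Op_cl]
  apply cl_eq_of_ratEquiv
  exact c1_gysin i s.δ (dimf δX hX s) t.δ eD L' hL' σ hσ _ (invM δX L hL s) _ (invM δX L hL t)
    (isoOf δX L s t i w) k _ (by ring) α hα w' hw' _ (genSec_ne_zero _ (invM δX L hL s)) _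
    (genSec_ne_zero _ (invM δX L hL t)) _ rfl γ hγc _ _
    (fun e => gysinCycle_apply _ _ _ _ _ _ _ _ e) rfl

/-- The class `c_1(L)`. -/
noncomputable def c1Cl : Bivar.OpCl 1 X δX where
  op := c1Op δX hX L hL
  push := fun s t h _ w k => c1_pushOK δX hX L hL s t h w k
  pull := fun s t h _ r hr w k => c1_pullOK δX hX L hL s t h r hr w k
  gysin := fun s t i _ w L' hL' σ hσ k => c1_gysinOK δX hX L hL s t i w L' hL' σ hσ k

theorem isC1Class_c1Cl : Bivar.IsC1Class L (c1Cl δX hX L hL) := by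
  refine ⟨hL, ?_⟩
  intro s k α hα v hv γ hγc hγ
  haveI := noeth δX hX s
  show c1Op δX hX L hL s k (ChowOps.cl α hα) = _
  exact c1CH_cl_eq s.δ (dimf δX hX s) _ (invM δX L hL s) k (k - 1) (by ring) α hα v hv γ hγc hγ

end cls

end Groth.Agent.Lib.Helper18.BivarC1
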