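import Mathlib
import Groth.Prelude.Def_Bivar2
import Groth.Agent.Lib.Helper18.Bivar.C1Class

/-!
# `c_1(L)` commutes with operational and bivariant classes (the Gysin map of the zero section)
-/

set_option autoImplicit false
set_option maxHeartbeats 1000000
set_option linter.style.haveILetI false
universe u
open AlgebraicGeometry CategoryTheory Limits

namespace Groth.Agent.Lib.Helper18.BivarC1Comm

open Groth.Agent.Lib.Helper18.BivarEnv Groth.Agent.Lib.Helper18.Push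
open Groth.Agent.Lib.Helper18.CycDiv Groth.Agent.Lib.Helper18.CycPull
open Groth.Agent.Lib.Helper18.C1Core Groth.Agent.Lib.Helper18.BivarFlat
open Groth.Agent.Lib.Helper18.KeyGeo Groth.Agent.Lib.Helper18.ModIso
open Groth.Agent.Lib.Helper18.BivarC1
open Groth.Agent.Lib.Helper28.PullbackInv

section zero

variable {Y : Scheme.{u}} (M : Y.Modules)

/-- The whole scheme is the zero scheme of the zero section. -/
theorem isZeroSchemeOf_id_zero (hM : PicF.IsInvertible M) :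
    Cyc.IsZeroSchemeOf (𝟙 Y) M (0 : M.presheaf.obj (Opposite.op ⊤)) := by
  refine ⟨?_, fun d => ?_⟩
  · ext x
    simp only [Set.mem_range, Set.mem_setOf_eq]
    constructor
    · intro _
      rw [map_zero]
      rfl
    · intro _
      exact ⟨x, rfl⟩
  · obtain ⟨t, ht⟩ := exists_span_eq_top M hM ((𝟙 Y : Y ⟶ Y) d)
    refine ⟨t, 0, ht, ?_, ?_⟩
    · rw [map_zero, zero_smul]
    · rw [Scheme.Hom.stalkMap_id]
      ext a
      simp only [RingHom.mem_ker, Ideal.mem_span_singleton, zero_dvd_iff]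
      rfl

theorem gysinChoice_zero (w : (ξ : Y) → Cyc.secFibre M ξ) :
    Cyc.gysinChoice M (0 : M.presheaf.obj (Opposite.op ⊤)) w = w := by
  funext ξ
  unfold Cyc.gysinChoice
  rw [if_neg]
  intro h
  apply h
  rw [map_zero]
  rfl

end zero

section opcl

variable {X : Scheme.{u}} (δX : X → ℤ) (hX : Cyc.IsSetup X δX) (L : X.Modules)

include hX in
/-- `c_1(L)` is central in `A^*(X)`. -/
theorem comm_opCl (c : Bivar.OpCl 1 X δX) (hc : Bivar.IsC1Class L c) (q : ℤ)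
    (d : Bivar.OpCl q X δX) (s : Bivar.OSq X δX) (k : ℤ) (x : ChowOps.CH s.Y s.δ k) :
    c.op s (k - q) (d.op s k x) =
      Bivar.chCast s.Y s.δ (sub_right_comm k 1 q) (d.op s (k - 1) (c.op s k x)) := by
  haveI := noeth δX hX s
  have hM := invM δX L hc.1 s
  obtain ⟨α, hα, rfl⟩ := Bivar.exists_rep x
  have hZ := isZeroSchemeOf_id_zero ((Scheme.Modules.pullback s.g).obj L) hM
  obtain ⟨β, hβ, e₁, H⟩ := d.gysin s s (𝟙 s.Y) (Category.id_comp _) _ hM 0 hZ k α hα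
  have hv := genSec_ne_zero _ hM
  have hγ : c1Cycle s.δ (dimf δX hX s) _ hM α (genSec _ hM) hv ∈ Cyc.Zk s.Y s.δ (k - 1) :=
    c1Cycle_mem s.δ (dimf δX hX s) _ hM (by ring) α hα _ hv
  obtain ⟨ζ, hζ, hζc, e₂⟩ := H (genSec _ hM) hv _
    (fun y => by rw [gysinChoice_zero]; rfl) hγ
  have e₃ : c.op s k (ChowOps.cl α hα) = ChowOps.cl _ hγ :=
    hc.2 s k α hα (genSec _ hM) hv _ rfl hγ
  have hζ' : ζ ∈ Cyc.Zk s.Y s.δ (k - q - 1) := (sub_right_comm k 1 q) ▸ hζ
  have e₄ : c.op s (k - q) (ChowOps.cl β hβ) = ChowOps.cl ζ hζ' :=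
    hc.2 s (k - q) β hβ (genSec _ hM) hv ζ
      (funext fun y => by rw [hζc y, gysinChoice_zero]; rfl) hζ'
  rw [e₁, e₄, e₃, e₂, Bivar.chCast_cl]

end opcl

section cl

variable {X X' : Scheme.{u}} (δX : X → ℤ) (δX' : X' → ℤ) (hX : Cyc.IsSetup X δX)
  (hX' : Cyc.IsSetup X' δX') (f : X' ⟶ X) [LocallyOfFiniteType f] (L : X.Modules)

include hX hX' in
/-- `c ∘ c_1(L) = c_1(f^*L) ∘ c` for a bivariant class `c`. -/
theorem comm_cl (cX : Bivar.OpCl 1 X δX) (hcX : Bivar.IsC1Class L cX)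
    (cX' : Bivar.OpCl 1 X' δX')
    (hcX' : Bivar.IsC1Class ((Scheme.Modules.pullback f).obj L) cX') (p : ℤ)
    (c : Bivar.Cl p f δX' δX) (s : Bivar.Sq f δX' δX) (k : ℤ) (x : ChowOps.CH s.Y' s.δY' k) :
    c.op s (k - 1) (cX.op ⟨s.Y', s.g, s.lft, s.δY', s.compatY⟩ k x) =
      Bivar.chCast s.X' s.δX' (sub_right_comm k p 1)
        (cX'.op ⟨s.X', s.g', MorphismProperty.of_isPullback s.isPullback s.lft, s.δX',
          s.compatX⟩ (k - p) (c.op s k x)) := by
  haveI := noeth_Y' hX.1 s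
  haveI := noeth_X' hX'.1 s
  have hM : PicF.IsInvertible ((Scheme.Modules.pullback s.g).obj L) :=
    isInvertible_pullback s.g hcX.1
  have hM₁ : PicF.IsInvertible
      ((Scheme.Modules.pullback s.g').obj ((Scheme.Modules.pullback f).obj L)) :=
    isInvertible_pullback s.g' hcX'.1
  have hN : PicF.IsInvertible
      ((Scheme.Modules.pullback s.f').obj ((Scheme.Modules.pullback s.g).obj L)) :=
    isInvertible_pullback s.f' hM
  let φ : (Scheme.Modules.pullback s.g').obj ((Scheme.Modules.pullback f).obj L) ≅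
      (Scheme.Modules.pullback s.f').obj ((Scheme.Modules.pullback s.g).obj L) :=
    (Scheme.Modules.pullbackComp s.g' f).app L ≪≫
      (Scheme.Modules.pullbackCongr s.isPullback.w.symm).app L ≪≫
      ((Scheme.Modules.pullbackComp s.f' s.g).app L).symm
  obtain ⟨α, hα, rfl⟩ := Bivar.exists_rep x
  have hZ := isZeroSchemeOf_id_zero ((Scheme.Modules.pullback s.g).obj L) hM
  have hZ' := isZeroSchemeOf_id_zero _ hN
  obtain ⟨β, hβ, e₁, H⟩ := c.gysin s s (𝟙 s.Y') (𝟙 s.X') (Category.id_comp _)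
    (by rw [Category.id_comp, Category.comp_id]) (Category.id_comp _) _ hM 0 hZ 0 hZ' k α hα
  have hv := genSec_ne_zero _ hM
  have hw' := genSec_ne_zero _ hN
  have hγ : c1Cycle s.δY' (dim_Y' hX s) _ hM α (genSec _ hM) hv ∈ Cyc.Zk s.Y' s.δY' (k - 1) :=
    c1Cycle_mem s.δY' (dim_Y' hX s) _ hM (by ring) α hα _ hv
  obtain ⟨ζ, hζ, hζc, e₂⟩ := H (genSec _ hM) hv _
    (fun y => by rw [gysinChoice_zero]; rfl) hγ (genSec _ hN) hw'
  have e₃ : cX.op ⟨s.Y', s.g, s.lft, s.δY', s.compatY⟩ k (ChowOps.cl α hα) = ChowOps.cl _ hγ :=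
    hcX.2 ⟨s.Y', s.g, s.lft, s.δY', s.compatY⟩ k α hα (genSec _ hM) hv _ rfl hγ
  have hζ' : ζ ∈ Cyc.Zk s.X' s.δX' (k - p - 1) := (sub_right_comm k p 1).symm ▸ hζ
  have e₄ : cX'.op ⟨s.X', s.g', MorphismProperty.of_isPullback s.isPullback s.lft, s.δX',
      s.compatX⟩ (k - p) (ChowOps.cl β hβ) = ChowOps.cl ζ hζ' :=
    hcX'.2 ⟨s.X', s.g', MorphismProperty.of_isPullback s.isPullback s.lft, s.δX', s.compatX⟩
      (k - p) β hβ (transSec φ (genSec _ hN)) (transSec_ne_zero φ _ hw') ζ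
      (funext fun y => by
        rw [hζc y, gysinChoice_zero, c1CapFun_transSec s.δX' (dim_X' hX' s) hM₁ hN φ ⇑β _ hw']
        rfl) hζ'
  rw [e₃, e₂, e₁, e₄, Bivar.chCast_cl]

end cl

end Groth.Agent.Lib.Helper18.BivarC1Comm
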