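import Mathlib
import Groth.Prelude.Def_Bivar2
import Groth.Agent.Lib.Helper18.Bivar.C1Class
import Groth.Agent.Lib.Helper18.Cyc.GysinComm
import Groth.Agent.Lib.Helper18.Push.ZeroPull
import Groth.Agent.Lib.Helper18.Push.GysinSq
import Groth.Agent.Lib.Helper18.Push.PushRat

/-!
# The Gysin class in `A^1(D ⟶ X)` of the zero scheme of a section of an invertible module
-/

set_option autoImplicit false
set_option maxHeartbeats 1000000
set_option linter.style.haveILetI false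
universe u
open AlgebraicGeometry CategoryTheory Limits

namespace Groth.Agent.Lib.Helper18.BivarGysin

open Groth.Agent.Lib.Helper18.BivarEnv Groth.Agent.Lib.Helper18.Push
open Groth.Agent.Lib.Helper18.CycDiv Groth.Agent.Lib.Helper18.CycPull
open Groth.Agent.Lib.Helper18.C1Core Groth.Agent.Lib.Helper18.BivarFlat
open Groth.Agent.Lib.Helper18.KeyGeo Groth.Agent.Lib.Helper18.ModIso
open Groth.Agent.Lib.Helper18.BivarC1
open Groth.Agent.Lib.Helper28.PullbackInv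

section rat

theorem ratEquiv_trans {X : Scheme.{u}} {δ : X → ℤ} {k : ℤ} (a b c : AlgebraicCycle X ℤ)
    (h₁ : Cyc.RatEquiv δ k a b) (h₂ : Cyc.RatEquiv δ k b c) : Cyc.RatEquiv δ k a c := by
  unfold Cyc.RatEquiv at *
  have := (ratPres_of_ratEquivZero _ h₁).add (ratPres_of_ratEquivZero _ h₂)
  refine RatPres.ratEquivZero (a - c) ((this.mono (Set.subset_univ _)).congr fun x => ?_)
  show (a x - b x) + (b x - c x) = a x - c x
  ring

end rat

section indep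

variable {S S' D E : Scheme.{u}} {f : S' ⟶ S} {i : D ⟶ S} {j : E ⟶ S'} {g : E ⟶ D}
  (sq : IsPullback j g f i) [IsClosedImmersion i] [IsClosedImmersion j]
  [IsLocallyNoetherian S] [IsLocallyNoetherian S']

include sq in
/-- The Gysin cycle computed with any module isomorphic to the pullback and any section of it
with the right zero scheme differs from the canonical one by a cycle rationally equivalent to
zero. -/
theorem exists_gysin_diff_iso (δ' : S' → ℤ) (hdim' : Cyc.IsDimFun S' δ')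
    (L : S.Modules) (hL : PicF.IsInvertible L) (σ : L.presheaf.obj (Opposite.op ⊤))
    (hσ : Cyc.IsZeroSchemeOf i L σ) (N : S'.Modules) (hN : PicF.IsInvertible N)
    (φ : (Scheme.Modules.pullback f).obj L ≅ N) (τ : N.presheaf.obj (Opposite.op ⊤))
    (hτ : Cyc.IsZeroSchemeOf j N τ) (k : ℤ) (α' : AlgebraicCycle S' ℤ)
    (hα' : α' ∈ Cyc.Zk S' δ' (k + 1)) (w : (ξ : S) → Cyc.secFibre L ξ) (hw : ∀ ξ, w ξ ≠ 0)
    (w' : (ξ : S') → Cyc.secFibre N ξ) (hw' : ∀ ξ, w' ξ ≠ 0) :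
    ∃ E₀ : AlgebraicCycle E ℤ, Cyc.RatEquivZero (fun z => δ' (j z)) k E₀ ∧
      ∀ z, E₀ z = Cyc.c1CapFun δ' ((Scheme.Modules.pullback f).obj L) ⇑α'
          (fun ξ => pullSec f L ξ (Cyc.gysinChoice L σ w (f ξ))) (j z) -
        Cyc.c1CapFun δ' N ⇑α' (Cyc.gysinChoice N τ w') (j z) := by
  have hM : PicF.IsInvertible ((Scheme.Modules.pullback f).obj L) := isInvertible_pullback f hL
  have hτ₀ := isZeroSchemeOf_iso φ.symm j τ hτ
  have hw₀ : ∀ ξ, fibreEquiv φ.symm ξ (w' ξ) ≠ 0 :=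
    fun ξ => fibreEquiv_ne_zero φ.symm ξ (hw' ξ)
  obtain ⟨E₀, hE, hEf⟩ := exists_gysin_diff_sq sq δ' hdim' L hL σ hσ _ hτ₀ k α' hα' w hw _ hw₀
  refine ⟨E₀, hE, fun z => ?_⟩
  rw [hEf z]
  congr 1
  have h1 : Cyc.gysinChoice ((Scheme.Modules.pullback f).obj L) (φ.symm.hom.app ⊤ τ)
      (fun ξ => fibreEquiv φ.symm ξ (w' ξ)) =
      fun ξ => fibreEquiv φ.symm ξ (Cyc.gysinChoice N τ w' ξ) :=
    funext (gysinChoice_fibreEquiv φ.symm τ w')
  rw [h1, c1CapFun_fibreEquiv δ' hdim' hN hM φ.symm ⇑α' _ (gysinChoice_ne_zero N τ w' hw')]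

include sq in
/-- The Gysin cycle does not depend on the module (up to isomorphism), the section with the
given zero scheme and the fallback sections, up to rational equivalence. -/
theorem gysin_indep_sq (δ' : S' → ℤ) (hdim' : Cyc.IsDimFun S' δ') (δE : E → ℤ)
    (eE : δE = fun z => δ' (j z))
    (L : S.Modules) (hL : PicF.IsInvertible L) (σ : L.presheaf.obj (Opposite.op ⊤))
    (hσ : Cyc.IsZeroSchemeOf i L σ) (N₁ N₂ : S'.Modules) (hN₁ : PicF.IsInvertible N₁)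
    (hN₂ : PicF.IsInvertible N₂)
    (φ₁ : (Scheme.Modules.pullback f).obj L ≅ N₁) (φ₂ : (Scheme.Modules.pullback f).obj L ≅ N₂)
    (τ₁ : N₁.presheaf.obj (Opposite.op ⊤)) (τ₂ : N₂.presheaf.obj (Opposite.op ⊤))
    (hτ₁ : Cyc.IsZeroSchemeOf j N₁ τ₁) (hτ₂ : Cyc.IsZeroSchemeOf j N₂ τ₂) (k l : ℤ)
    (e : l + 1 = k) (α' : AlgebraicCycle S' ℤ) (hα' : α' ∈ Cyc.Zk S' δ' k)
    (w₁ : (ξ : S') → Cyc.secFibre N₁ ξ) (hw₁ : ∀ ξ, w₁ ξ ≠ 0)
    (w₂ : (ξ : S') → Cyc.secFibre N₂ ξ) (hw₂ : ∀ ξ, w₂ ξ ≠ 0)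
    (ζ₁ ζ₂ : AlgebraicCycle E ℤ)
    (h₁ : ∀ z, ζ₁ z = Cyc.c1CapFun δ' N₁ ⇑α' (Cyc.gysinChoice N₁ τ₁ w₁) (j z))
    (h₂ : ∀ z, ζ₂ z = Cyc.c1CapFun δ' N₂ ⇑α' (Cyc.gysinChoice N₂ τ₂ w₂) (j z)) :
    Cyc.RatEquiv δE l ζ₁ ζ₂ := by
  subst eE e
  obtain ⟨E₁, hE₁, hE₁f⟩ := exists_gysin_diff_iso sq δ' hdim' L hL σ hσ N₁ hN₁ φ₁ τ₁ hτ₁ l α' hα'
    (genSec L hL) (genSec_ne_zero L hL) w₁ hw₁
  obtain ⟨E₂, hE₂, hE₂f⟩ := exists_gysin_diff_iso sq δ' hdim' L hL σ hσ N₂ hN₂ φ₂ τ₂ hτ₂ l α' hα'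
    (genSec L hL) (genSec_ne_zero L hL) w₂ hw₂
  have hall := (ratPres_of_ratEquivZero E₂ hE₂).sub (ratPres_of_ratEquivZero E₁ hE₁)
  refine RatPres.ratEquivZero (ζ₁ - ζ₂) ((hall.mono (Set.subset_univ _)).congr fun z => ?_)
  show E₂ z - E₁ z = ζ₁ z - ζ₂ z
  rw [hE₁f z, hE₂f z, h₁ z, h₂ z]
  ring

end indep

section cores

variable {S S' D E : Scheme.{u}} {f : S' ⟶ S} {i : D ⟶ S} {j : E ⟶ S'} {g : E ⟶ D}
  (sq : IsPullback j g f i) [IsClosedImmersion i] [IsClosedImmersion j]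
  [IsLocallyNoetherian S] [IsLocallyNoetherian S']

include sq in
/-- Gysin maps commute with proper pushforward, with free dimension functions. -/
theorem gysin_push_core [IsProper f] [IsProper g] (δ : S → ℤ) (δ' : S' → ℤ) (δD : D → ℤ)
    (δE : E → ℤ) (eD : δD = fun d => δ (i d)) (eE : δE = fun z => δ' (j z))
    (hdim : Cyc.IsDimFun S δ) (hdim' : Cyc.IsDimFun S' δ') (hδ : Cyc.DeltaCompat f δ' δ)
    (L : S.Modules) (hL : PicF.IsInvertible L) (σ : L.presheaf.obj (Opposite.op ⊤))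
    (hσ : Cyc.IsZeroSchemeOf i L σ)
    (τ : ((Scheme.Modules.pullback f).obj L).presheaf.obj (Opposite.op ⊤))
    (hτ : Cyc.IsZeroSchemeOf j ((Scheme.Modules.pullback f).obj L) τ) (k l : ℤ) (e : l + 1 = k)
    (α' : AlgebraicCycle S' ℤ) (hα' : α' ∈ Cyc.Zk S' δ' k)
    (w : (ξ : S) → Cyc.secFibre L ξ) (hw : ∀ ξ, w ξ ≠ 0)
    (w' : (ξ : S') → Cyc.secFibre ((Scheme.Modules.pullback f).obj L) ξ) (hw' : ∀ ξ, w' ξ ≠ 0)
    (γ : AlgebraicCycle D ℤ)
    (hγ : ∀ d, γ d = Cyc.c1CapFun δ L ⇑(AlgebraicCycle.map f δ' δ α')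
      (Cyc.gysinChoice L σ w) (i d))
    (γ' : AlgebraicCycle E ℤ)
    (hγ' : ∀ z, γ' z = Cyc.c1CapFun δ' ((Scheme.Modules.pullback f).obj L) ⇑α'
      (Cyc.gysinChoice ((Scheme.Modules.pullback f).obj L) τ w') (j z)) :
    Cyc.RatEquiv δD l γ (AlgebraicCycle.map g δE δD γ') := by
  subst eD eE e
  exact gysin_map_ratEquiv_sq sq δ δ' hdim hdim' hδ L hL σ hσ τ hτ l α' hα' w hw w' hw' γ hγ γ' hγ'

end cores

section cores2

variable {X D D' P : Scheme.{u}} [IsLocallyNoetherian X]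

/-- Two Gysin maps commute, with free dimension functions. -/
theorem gysin_gysin_core (δ : X → ℤ) (hδ : Cyc.IsDimFun X δ) (δD : D → ℤ) (δD' : D' → ℤ)
    (δP : P → ℤ) (L L' : X.Modules) (hL : PicF.IsInvertible L)
    (hL' : PicF.IsInvertible L') (s : L.presheaf.obj (Opposite.op ⊤))
    (s' : L'.presheaf.obj (Opposite.op ⊤)) (i : D ⟶ X) (i' : D' ⟶ X) [IsClosedImmersion i]
    [IsClosedImmersion i'] (j : P ⟶ D) (j' : P ⟶ D') [IsClosedImmersion j]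
    [IsClosedImmersion j'] (sq : IsPullback j j' i i')
    (eD : δD = fun d => δ (i d)) (eD' : δD' = fun d => δ (i' d))
    (eP : δP = fun z => δ (i (j z)))
    (hD : Cyc.IsZeroSchemeOf i L s) (hD' : Cyc.IsZeroSchemeOf i' L' s')
    (σ' : ((Scheme.Modules.pullback i).obj L').presheaf.obj (Opposite.op ⊤))
    (hσ' : Cyc.IsZeroSchemeOf j ((Scheme.Modules.pullback i).obj L') σ')
    (σ : ((Scheme.Modules.pullback i').obj L).presheaf.obj (Opposite.op ⊤))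
    (hσ : Cyc.IsZeroSchemeOf j' ((Scheme.Modules.pullback i').obj L) σ)
    (k l : ℤ) (e : k - 2 = l) (α : AlgebraicCycle X ℤ) (hα : α ∈ Cyc.Zk X δ k)
    (w : (ξ : X) → Cyc.secFibre L ξ) (hw : ∀ ξ, w ξ ≠ 0)
    (w' : (ξ : X) → Cyc.secFibre L' ξ) (hw' : ∀ ξ, w' ξ ≠ 0)
    (w₁ : (d : D) → Cyc.secFibre ((Scheme.Modules.pullback i).obj L') d) (hw₁ : ∀ d, w₁ d ≠ 0)
    (w₂ : (d : D') → Cyc.secFibre ((Scheme.Modules.pullback i').obj L) d) (hw₂ : ∀ d, w₂ d ≠ 0)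
    (γ : AlgebraicCycle D ℤ)
    (hγ : ∀ d, γ d = Cyc.c1CapFun δ L ⇑α (Cyc.gysinChoice L s w) (i d))
    (γ' : AlgebraicCycle D' ℤ)
    (hγ' : ∀ d, γ' d = Cyc.c1CapFun δ L' ⇑α (Cyc.gysinChoice L' s' w') (i' d))
    (ζ₁ ζ₂ : AlgebraicCycle P ℤ)
    (h₁ : ∀ z, ζ₁ z = Cyc.c1CapFun δD ((Scheme.Modules.pullback i).obj L') ⇑γ
      (Cyc.gysinChoice ((Scheme.Modules.pullback i).obj L') σ' w₁) (j z))
    (h₂ : ∀ z, ζ₂ z = Cyc.c1CapFun δD' ((Scheme.Modules.pullback i').obj L) ⇑γ'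
      (Cyc.gysinChoice ((Scheme.Modules.pullback i').obj L) σ w₂) (j' z)) :
    Cyc.RatEquiv δP l ζ₁ ζ₂ := by
  subst eD eD' eP e
  exact gysin_gysin_comm_sq δ hδ L L' hL hL' s s' i i' j j' sq hD hD' σ' hσ' σ hσ k α hα w hw
    w' hw' w₁ hw₁ w₂ hw₂ ⇑γ (funext hγ) ⇑γ' (funext hγ') ζ₁ ζ₂ h₁ h₂

end cores2

section basic

variable {Y E : Scheme.{u}} [IsLocallyNoetherian Y] (δ : Y → ℤ) (hδ : Cyc.IsDimFun Y δ)
  (M : Y.Modules) (hM : PicF.IsInvertible M) (τ : M.presheaf.obj (Opposite.op ⊤))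
  (j : E ⟶ Y) [IsClosedImmersion j] (hτ : Cyc.IsZeroSchemeOf j M τ) (δE : E → ℤ)
  (eE : δE = fun z => δ (j z))

include eE in
theorem gysinCycle_mem {k l : ℤ} (e : l + 1 = k) (α : AlgebraicCycle Y ℤ)
    (hα : α ∈ Cyc.Zk Y δ k) (u : (ξ : Y) → Cyc.secFibre M ξ) (hu : ∀ ξ, u ξ ≠ 0) :
    gysinCycle j δ hδ M hM α u hu ∈ Cyc.Zk E δE l := by
  intro z hz
  rw [gysinCycle_apply]
  apply c1CapFun_eq_zero_of_delta_ne δ _ _ k (fun ξ hξ => hα ξ hξ)
  intro h0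
  apply hz
  rw [eE]
  show δ (j z) = l
  rw [h0, ← e]
  ring

/-- the Gysin map on cycles of fixed weight, computed with the chosen generators as fallback -/
noncomputable def gysZk (k l : ℤ) (e : l + 1 = k) :
    ↥(ChowOps.zk Y δ k) →+ ↥(ChowOps.zk E δE l) where
  toFun a := ⟨gysinCycle j δ hδ M hM a.1 (Cyc.gysinChoice M τ (genSec M hM))
      (gysinChoice_ne_zero M τ _ (genSec_ne_zero M hM)),
    gysinCycle_mem δ hδ M hM j δE eE e a.1 a.2 _ _⟩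
  map_zero' := by
    apply Subtype.ext
    ext x
    show Cyc.c1CapFun δ M ⇑(0 : AlgebraicCycle Y ℤ) _ (j x) = 0
    rw [Function.locallyFinsuppWithin.coe_zero, Bivar.c1CapFun_zero]
    rfl
  map_add' a b := by
    apply Subtype.ext
    ext x
    show Cyc.c1CapFun δ M ⇑(a.1 + b.1) _ (j x) = _
    rw [Function.locallyFinsuppWithin.coe_add, Bivar.c1CapFun_add]
    rfl

/-- the Gysin map on Chow groups -/
noncomputable def gysCH (k l : ℤ) (e : l + 1 = k) : ChowOps.CH Y δ k →+ ChowOps.CH E δE l :=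
  QuotientAddGroup.map (ChowOps.ratTriv Y δ k) (ChowOps.ratTriv E δE l)
    (gysZk δ hδ M hM τ j δE eE k l e) (by
      unfold ChowOps.ratTriv
      rw [AddSubgroup.closure_le]
      intro a ha
      apply AddSubgroup.subset_closure
      have ha' : Cyc.RatEquivZero δ (l + 1) a.1 := by rw [e]; exact ha
      have := gysin_ratEquivZero δ hδ M hM τ j hτ l a.1 ha' (genSec M hM) (genSec_ne_zero M hM)
        (gysinCycle j δ hδ M hM a.1 (Cyc.gysinChoice M τ (genSec M hM))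
          (gysinChoice_ne_zero M τ _ (genSec_ne_zero M hM)))
        (fun d => gysinCycle_apply _ _ _ _ _ _ _ _ d)
      subst eE
      exact this)

theorem gysCH_cl (k l : ℤ) (e : l + 1 = k) (α : AlgebraicCycle Y ℤ) (hα : α ∈ Cyc.Zk Y δ k) :
    gysCH δ hδ M hM τ j hτ δE eE k l e (ChowOps.cl α hα) =
      ChowOps.cl (gysinCycle j δ hδ M hM α (Cyc.gysinChoice M τ (genSec M hM))
          (gysinChoice_ne_zero M τ _ (genSec_ne_zero M hM)))
        (gysinCycle_mem δ hδ M hM j δE eE e α hα _ _) := rfl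

end basic

section cls

variable {X D : Scheme.{u}} (δX : X → ℤ) (δD : D → ℤ) (hX : Cyc.IsSetup X δX)
  (hDs : Cyc.IsSetup D δD) (i : D ⟶ X) [IsClosedImmersion i] (hδ : Cyc.DeltaCompat i δD δX)
  (L : X.Modules) (hL : PicF.IsInvertible L) (σ : L.presheaf.obj (Opposite.op ⊤))
  (hσ : Cyc.IsZeroSchemeOf i L σ)

omit [IsClosedImmersion i] in
theorem closedImm_f' [IsClosedImmersion i] (s : Bivar.Sq i δD δX) : IsClosedImmersion s.f' :=
  MorphismProperty.of_isPullback s.isPullback.flip inferInstance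

include hδ in
theorem eE (s : Bivar.Sq i δD δX) : s.δX' = fun z => s.δY' (s.f' z) :=
  haveI := closedImm_f' δX δD i s
  delta_eq_comp_of_isClosedImmersion s.f' s.δX' s.δY' (compat_f' hδ s)

/-- the pulled back module on the test scheme -/
noncomputable abbrev Ms (s : Bivar.Sq i δD δX) : s.Y'.Modules := (Scheme.Modules.pullback s.g).obj L

include hL in
theorem invMs (s : Bivar.Sq i δD δX) : PicF.IsInvertible (Ms δX δD i L s) :=
  isInvertible_pullback s.g hL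

/-- the pulled back section on the test scheme -/
noncomputable abbrev σs (s : Bivar.Sq i δD δX) :
    (Ms δX δD i L s).presheaf.obj (Opposite.op ⊤) := ProjUP.pullSec s.g L σ

include hL hσ in
theorem hZs (s : Bivar.Sq i δD δX) :
    Cyc.IsZeroSchemeOf s.f' (Ms δX δD i L s) (σs δX δD i L σ s) :=
  haveI := closedImm_f' δX δD i s
  isZeroSchemeOf_pullSec s.isPullback L hL σ hσ

/-- the canonical Gysin cycle on the fibre product -/
noncomputable def gCycle (s : Bivar.Sq i δD δX) (α : AlgebraicCycle s.Y' ℤ) :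
    AlgebraicCycle s.X' ℤ :=
  haveI := noeth_Y' hX.1 s
  haveI := closedImm_f' δX δD i s
  gysinCycle s.f' s.δY' (dim_Y' hX s) (Ms δX δD i L s) (invMs δX δD i L hL s) α
    (Cyc.gysinChoice _ (σs δX δD i L σ s) (genSec _ (invMs δX δD i L hL s)))
    (gysinChoice_ne_zero _ _ _ (genSec_ne_zero _ (invMs δX δD i L hL s)))

theorem gCycle_apply (s : Bivar.Sq i δD δX) (α : AlgebraicCycle s.Y' ℤ) (z : s.X') :
    gCycle δX δD hX i L hL σ s α z =
      Cyc.c1CapFun s.δY' (Ms δX δD i L s) ⇑α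
        (Cyc.gysinChoice _ (σs δX δD i L σ s) (genSec _ (invMs δX δD i L hL s))) (s.f' z) := rfl

include hδ in
theorem gCycle_mem (s : Bivar.Sq i δD δX) {k l : ℤ} (e : l + 1 = k) (α : AlgebraicCycle s.Y' ℤ)
    (hα : α ∈ Cyc.Zk s.Y' s.δY' k) : gCycle δX δD hX i L hL σ s α ∈ Cyc.Zk s.X' s.δX' l :=
  haveI := noeth_Y' hX.1 s
  haveI := closedImm_f' δX δD i s
  gysinCycle_mem s.δY' (dim_Y' hX s) _ _ s.f' s.δX' (eE δX δD i hδ s) e α hα _ _

/-- the operation of the Gysin class -/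
noncomputable def gysOp (s : Bivar.Sq i δD δX) (k : ℤ) :
    ChowOps.CH s.Y' s.δY' k →+ ChowOps.CH s.X' s.δX' (k - 1) :=
  haveI := noeth_Y' hX.1 s
  haveI := closedImm_f' δX δD i s
  gysCH s.δY' (dim_Y' hX s) (Ms δX δD i L s) (invMs δX δD i L hL s) (σs δX δD i L σ s) s.f'
    (hZs δX δD i L hL σ hσ s) s.δX' (eE δX δD i hδ s) k (k - 1) (by ring)

theorem gysOp_cl (s : Bivar.Sq i δD δX) (k : ℤ) (α : AlgebraicCycle s.Y' ℤ)
    (hα : α ∈ Cyc.Zk s.Y' s.δY' k) :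
    gysOp δX δD hX i hδ L hL σ hσ s k (ChowOps.cl α hα) =
      ChowOps.cl (gCycle δX δD hX i L hL σ s α)
        (gCycle_mem δX δD hX i hδ L hL σ s (by ring) α hα) := rfl

include hδ hσ in
/-- independence of the Gysin cycle on a test square -/
theorem gys_indep (s : Bivar.Sq i δD δX) (N : s.Y'.Modules) (hN : PicF.IsInvertible N)
    (φ : Ms δX δD i L s ≅ N) (τ : N.presheaf.obj (Opposite.op ⊤))
    (hτ : Cyc.IsZeroSchemeOf s.f' N τ) (k l : ℤ) (e : l + 1 = k) (α : AlgebraicCycle s.Y' ℤ)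
    (hα : α ∈ Cyc.Zk s.Y' s.δY' k) (w' : (ξ : s.Y') → Cyc.secFibre N ξ) (hw' : ∀ ξ, w' ξ ≠ 0)
    (ζ : AlgebraicCycle s.X' ℤ)
    (hζ : ∀ z, ζ z = Cyc.c1CapFun s.δY' N ⇑α (Cyc.gysinChoice N τ w') (s.f' z)) :
    Cyc.RatEquiv s.δX' l ζ (gCycle δX δD hX i L hL σ s α) := by
  haveI := hX.1
  haveI := noeth_Y' hX.1 s
  haveI := closedImm_f' δX δD i s
  exact gysin_indep_sq s.isPullback s.δY' (dim_Y' hX s) s.δX' (eE δX δD i hδ s) L hL σ hσ N
    (Ms δX δD i L s) hN (invMs δX δD i L hL s) φ (Iso.refl _) τ (σs δX δD i L σ s) hτ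
    (hZs δX δD i L hL σ hσ s) k l e α hα w' hw' (genSec _ (invMs δX δD i L hL s))
    (genSec_ne_zero _ (invMs δX δD i L hL s)) ζ _ hζ
    (fun z => gCycle_apply δX δD hX i L hL σ s α z)

/-- the comparison isomorphism of pulled back modules -/
noncomputable def isoComp {T S : Scheme.{u}} (h : T ⟶ S) (g : S ⟶ X) (g' : T ⟶ X)
    (w : h ≫ g = g') :
    (Scheme.Modules.pullback h).obj ((Scheme.Modules.pullback g).obj L) ≅
      (Scheme.Modules.pullback g').obj L :=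
  (Scheme.Modules.pullbackComp h g).app L ≪≫ (Scheme.Modules.pullbackCongr w).app L

include hδ hσ hDs in
theorem gys_push (s t : Bivar.Sq i δD δX) (h : t.Y' ⟶ s.Y') [IsProper h] (h' : t.X' ⟶ s.X')
    [IsProper h'] (w₁ : h ≫ s.g = t.g) (w₂ : h' ≫ s.f' = t.f' ≫ h) (w₃ : h' ≫ s.g' = t.g')
    (k : ℤ) :
    Bivar.PushOK t.δY' t.δX' s.δY' s.δX' h h' (gysOp δX δD hX i hδ L hL σ hσ t k)
      (gysOp δX δD hX i hδ L hL σ hσ s k) := by
  haveI := hX.1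
  haveI := noeth_Y' hX.1 s
  haveI := noeth_Y' hX.1 t
  haveI := noeth_X' hDs.1 s
  haveI := noeth_X' hDs.1 t
  haveI := closedImm_f' δX δD i s
  haveI := closedImm_f' δX δD i t
  intro α hα
  refine ⟨gCycle δX δD hX i L hL σ t α, gCycle_mem δX δD hX i hδ L hL σ t (by ring) α hα,
    gysOp_cl δX δD hX i hδ L hL σ hσ t k α hα, ?_⟩
  rw [gysOp_cl]
  apply cl_eq_of_ratEquiv
  have sq' := isPullback_of_sq s t h h' w₁ w₂ w₃
  have hMs := invMs δX δD i L hL s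
  have hMh : PicF.IsInvertible ((Scheme.Modules.pullback h).obj (Ms δX δD i L s)) :=
    isInvertible_pullback h hMs
  have hZh := isZeroSchemeOf_pullSec sq' (Ms δX δD i L s) hMs (σs δX δD i L σ s)
    (hZs δX δD i L hL σ hσ s)
  -- the intermediate cycle
  let G' : AlgebraicCycle t.X' ℤ := gysinCycle t.f' t.δY' (dim_Y' hX t) _ hMh α
    (Cyc.gysinChoice _ (ProjUP.pullSec h (Ms δX δD i L s) (σs δX δD i L σ s)) (genSec _ hMh))
    (gysinChoice_ne_zero _ _ _ (genSec_ne_zero _ hMh))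
  have step1 : Cyc.RatEquiv s.δX' (k - 1)
      (gCycle δX δD hX i L hL σ s (AlgebraicCycle.map h t.δY' s.δY' α))
      (AlgebraicCycle.map h' t.δX' s.δX' G') :=
    gysin_push_core sq' s.δY' t.δY' s.δX' t.δX' (eE δX δD i hδ s) (eE δX δD i hδ t)
      (dim_Y' hX s) (dim_Y' hX t) (compat_h s t h w₁) _ hMs _ (hZs δX δD i L hL σ hσ s) _ hZh
      k (k - 1) (by ring) α hα _ (genSec_ne_zero _ hMs) _ (genSec_ne_zero _ hMh) _
      (fun d => gCycle_apply δX δD hX i L hL σ s _ d) G'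
      (fun z => gysinCycle_apply _ _ _ _ _ _ _ _ z)
  have step2 : Cyc.RatEquiv t.δX' (k - 1) G' (gCycle δX δD hX i L hL σ t α) :=
    gys_indep δX δD hX i hδ L hL σ hσ t _ hMh (isoComp L h s.g t.g w₁).symm _ hZh k (k - 1)
      (by ring) α hα _ (genSec_ne_zero _ hMh) G' (fun z => gysinCycle_apply _ _ _ _ _ _ _ _ z)
  have step3 : Cyc.RatEquiv s.δX' (k - 1) (AlgebraicCycle.map h' t.δX' s.δX' G')
      (AlgebraicCycle.map h' t.δX' s.δX' (gCycle δX δD hX i L hL σ t α)) := by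
    show Cyc.RatEquivZero s.δX' (k - 1) _
    rw [← Push.map_sub]
    exact ratEquivZero_map h' t.δX' s.δX' (dim_X' hDs t) (dim_X' hDs s) (compat_h' s t h' w₃)
      (k - 1) _ step2
  exact ratEquiv_trans _ _ _ step1 step3

include hδ hσ hDs in
theorem gys_pull (s t : Bivar.Sq i δD δX) (h : t.Y' ⟶ s.Y') [Flat h] (h' : t.X' ⟶ s.X')
    [Flat h'] (r' : ℕ) (hr₁ : Cyc.HasRelDim h r') (hr₂ : Cyc.HasRelDim h' r')
    (w₁ : h ≫ s.g = t.g) (w₂ : h' ≫ s.f' = t.f' ≫ h) (w₃ : h' ≫ s.g' = t.g') (k : ℤ) :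
    Bivar.PullOK s.δY' s.δX' t.δY' t.δX' h h' (r' : ℤ) (gysOp δX δD hX i hδ L hL σ hσ s k)
      (gysOp δX δD hX i hδ L hL σ hσ t (k + r')) := by
  haveI := hX.1
  haveI := noeth_Y' hX.1 s
  haveI := noeth_Y' hX.1 t
  haveI := noeth_X' hDs.1 s
  haveI := noeth_X' hDs.1 t
  haveI := closedImm_f' δX δD i s
  haveI := closedImm_f' δX δD i t
  haveI := s.lft
  haveI := t.lft
  haveI : LocallyOfFiniteType (h ≫ s.g) := by rw [w₁]; infer_instance
  haveI : LocallyOfFiniteType h := locallyOfFiniteType_of_comp h s.g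
  intro α hα
  refine ⟨gCycle δX δD hX i L hL σ s α, gCycle_mem δX δD hX i hδ L hL σ s (by ring) α hα,
    gysOp_cl δX δD hX i hδ L hL σ hσ s k α hα, ?_⟩
  intro α₁ hα₁c hα₁
  refine ⟨pullCycle h' t.δX' s.δX' (r' : ℤ) (gCycle δX δD hX i L hL σ s α),
    pullCycle_mem h' t.δX' s.δX' (r' : ℤ) (k - 1) _ (by ring) _
      (gCycle_mem δX δD hX i hδ L hL σ s (by ring) α hα), rfl, ?_⟩
  rw [gysOp_cl]
  apply cl_eq_of_ratEquiv
  have sq' := isPullback_of_sq s t h h' w₁ w₂ w₃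
  have hMs := invMs δX δD i L hL s
  have hMh : PicF.IsInvertible ((Scheme.Modules.pullback h).obj (Ms δX δD i L s)) :=
    isInvertible_pullback h hMs
  have hZh := isZeroSchemeOf_pullSec sq' (Ms δX δD i L s) hMs (σs δX δD i L σ s)
    (hZs δX δD i L hL σ hσ s)
  -- the intermediate cycle
  let G' : AlgebraicCycle t.X' ℤ := gysinCycle t.f' t.δY' (dim_Y' hX t) _ hMh α₁
    (Cyc.gysinChoice _ (ProjUP.pullSec h (Ms δX δD i L s) (σs δX δD i L σ s)) (genSec _ hMh))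
    (gysinChoice_ne_zero _ _ _ (genSec_ne_zero _ hMh))
  have step1 : Cyc.RatEquiv t.δX' (k + r' - 1) G'
      (pullCycle h' t.δX' s.δX' (r' : ℤ) (gCycle δX δD hX i L hL σ s α)) :=
    gysin_core sq' s.δY' t.δY' s.δX' t.δX' (eE δX δD i hδ s) (eE δX δD i hδ t)
      (dim_Y' hX s) (dim_Y' hX t) r' hr₁ (compat_h s t h w₁) _ hMs _
      (hZs δX δD i L hL σ hσ s) _ hZh k _ (by ring) α hα _ (genSec_ne_zero _ hMs) _
      (genSec_ne_zero _ hMh) _ (fun d => gCycle_apply δX δD hX i L hL σ s _ d) G'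
      (fun z => by rw [gysinCycle_apply, hα₁c])
  have step2 : Cyc.RatEquiv t.δX' (k + r' - 1) G' (gCycle δX δD hX i L hL σ t α₁) :=
    gys_indep δX δD hX i hδ L hL σ hσ t _ hMh (isoComp L h s.g t.g w₁).symm _ hZh (k + r')
      (k + r' - 1) (by ring) α₁ hα₁ _ (genSec_ne_zero _ hMh) G'
      (fun z => gysinCycle_apply _ _ _ _ _ _ _ _ z)
  exact ratEquiv_trans _ _ _ (ratEquiv_symm _ _ step2) step1

include hδ hσ hDs in
theorem gys_gysin (s t : Bivar.Sq i δD δX) (i₁ : t.Y' ⟶ s.Y') [IsClosedImmersion i₁]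
    (j : t.X' ⟶ s.X') [IsClosedImmersion j] (w₁ : i₁ ≫ s.g = t.g)
    (w₂ : j ≫ s.f' = t.f' ≫ i₁) (w₃ : j ≫ s.g' = t.g') (L₁ : s.Y'.Modules)
    (hL₁ : PicF.IsInvertible L₁) (σ₁ : L₁.presheaf.obj (Opposite.op ⊤))
    (hσ₁ : Cyc.IsZeroSchemeOf i₁ L₁ σ₁)
    (τ : ((Scheme.Modules.pullback s.f').obj L₁).presheaf.obj (Opposite.op ⊤))
    (hτ : Cyc.IsZeroSchemeOf j ((Scheme.Modules.pullback s.f').obj L₁) τ) (k : ℤ) :
    Bivar.GysinOK s.δY' t.δY' s.δX' t.δX' i₁ L₁ σ₁ j ((Scheme.Modules.pullback s.f').obj L₁) τ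
      (gysOp δX δD hX i hδ L hL σ hσ s k) (gysOp δX δD hX i hδ L hL σ hσ t (k - 1)) := by
  haveI := hX.1
  haveI := noeth_Y' hX.1 s
  haveI := noeth_Y' hX.1 t
  haveI := noeth_X' hDs.1 s
  haveI := noeth_X' hDs.1 t
  haveI := closedImm_f' δX δD i s
  haveI := closedImm_f' δX δD i t
  have eX : t.δX' = fun z => s.δX' (j z) :=
    delta_eq_comp_of_isClosedImmersion j t.δX' s.δX' (compat_h' s t j w₃)
  have eY : t.δY' = fun d => s.δY' (i₁ d) :=
    delta_eq_comp_of_isClosedImmersion i₁ t.δY' s.δY' (compat_h s t i₁ w₁)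
  have eP : t.δX' = fun z => s.δY' (s.f' (j z)) :=
    funext fun z => (congrFun eX z).trans (congrFun (eE δX δD i hδ s) (j z))
  have hM₁ : PicF.IsInvertible ((Scheme.Modules.pullback s.f').obj L₁) :=
    isInvertible_pullback s.f' hL₁
  intro α hα
  have hβ := gCycle_mem δX δD hX i hδ L hL σ s (k := k) (l := k - 1) (by ring) α hα
  refine ⟨gCycle δX δD hX i L hL σ s α, hβ, gysOp_cl δX δD hX i hδ L hL σ hσ s k α hα, ?_⟩
  intro w hw γ hγc hγ w' hw'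
  refine ⟨gysinCycle j s.δX' (dim_X' hDs s) _ hM₁ (gCycle δX δD hX i L hL σ s α)
      (Cyc.gysinChoice _ τ w') (gysinChoice_ne_zero _ τ w' hw'),
    gysinCycle_mem s.δX' (dim_X' hDs s) _ hM₁ j t.δX' eX (by ring) _ hβ _ _,
    fun e => gysinCycle_apply _ _ _ _ _ _ _ _ e, ?_⟩
  rw [gysOp_cl]
  apply cl_eq_of_ratEquiv
  have sq' := isPullback_of_sq s t i₁ j w₁ w₂ w₃
  have hMs := invMs δX δD i L hL s
  have hMi : PicF.IsInvertible ((Scheme.Modules.pullback i₁).obj (Ms δX δD i L s)) :=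
    isInvertible_pullback i₁ hMs
  have hZi := isZeroSchemeOf_pullSec sq' (Ms δX δD i L s) hMs (σs δX δD i L σ s)
    (hZs δX δD i L hL σ hσ s)
  -- the intermediate cycle
  let G' : AlgebraicCycle t.X' ℤ := gysinCycle t.f' t.δY' (dim_Y' hX t) _ hMi γ
    (Cyc.gysinChoice _ (ProjUP.pullSec i₁ (Ms δX δD i L s) (σs δX δD i L σ s)) (genSec _ hMi))
    (gysinChoice_ne_zero _ _ _ (genSec_ne_zero _ hMi))
  have step1 : Cyc.RatEquiv t.δX' (k - 1 - 1)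
      (gysinCycle j s.δX' (dim_X' hDs s) _ hM₁ (gCycle δX δD hX i L hL σ s α)
        (Cyc.gysinChoice _ τ w') (gysinChoice_ne_zero _ τ w' hw')) G' :=
    gysin_gysin_core s.δY' (dim_Y' hX s) s.δX' t.δY' t.δX' (Ms δX δD i L s) L₁ hMs hL₁
      (σs δX δD i L σ s) σ₁ s.f' i₁ j t.f' sq'.flip (eE δX δD i hδ s) eY eP
      (hZs δX δD i L hL σ hσ s) hσ₁ τ hτ _ hZi k _ (by ring) α hα _ (genSec_ne_zero _ hMs)
      w hw w' hw' _ (genSec_ne_zero _ hMi) _ (fun d => gCycle_apply δX δD hX i L hL σ s _ d)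
      γ hγc _ G' (fun z => gysinCycle_apply _ _ _ _ _ _ _ _ z)
      (fun z => gysinCycle_apply _ _ _ _ _ _ _ _ z)
  have step2 : Cyc.RatEquiv t.δX' (k - 1 - 1) G' (gCycle δX δD hX i L hL σ t γ) :=
    gys_indep δX δD hX i hδ L hL σ hσ t _ hMi (isoComp L i₁ s.g t.g w₁).symm _ hZi (k - 1)
      (k - 1 - 1) (by ring) γ hγ _ (genSec_ne_zero _ hMi) G'
      (fun z => gysinCycle_apply _ _ _ _ _ _ _ _ z)
  exact ratEquiv_symm _ _ (ratEquiv_trans _ _ _ step1 step2)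

/-- The Gysin class of the triple `(L, σ, i)`. -/
noncomputable def gysCl : Bivar.Cl 1 i δD δX where
  op := gysOp δX δD hX i hδ L hL σ hσ
  push := fun s t h _ h' _ w₁ w₂ w₃ k =>
    gys_push δX δD hX hDs i hδ L hL σ hσ s t h h' w₁ w₂ w₃ k
  pull := fun s t h _ h' _ r' hr₁ hr₂ w₁ w₂ w₃ k =>
    gys_pull δX δD hX hDs i hδ L hL σ hσ s t h h' r' hr₁ hr₂ w₁ w₂ w₃ k
  gysin := fun s t i₁ _ j _ w₁ w₂ w₃ L₁ hL₁ σ₁ hσ₁ τ hτ k =>
    gys_gysin δX δD hX hDs i hδ L hL σ hσ s t i₁ j w₁ w₂ w₃ L₁ hL₁ σ₁ hσ₁ τ hτ k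

theorem isGysinClass_gysCl :
    Bivar.IsGysinClass i L σ (gysCl δX δD hX hDs i hδ L hL σ hσ) := by
  refine ⟨hL, hσ, hδ, ?_⟩
  intro s τ hτ k α hα w hw γ hγc hγ
  show gysOp δX δD hX i hδ L hL σ hσ s k (ChowOps.cl α hα) = _
  rw [gysOp_cl]
  symm
  apply cl_eq_of_ratEquiv
  exact gys_indep δX δD hX i hδ L hL σ hσ s _ (invMs δX δD i L hL s) (Iso.refl _) τ hτ k (k - 1)
    (by ring) α hα w hw γ hγc

end cls

end Groth.Agent.Lib.Helper18.BivarGysin
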