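import Mathlib
import Groth.Prelude.Def_Bivar2
import Groth.Agent.Lib.Helper18.Bivar.FlatPull
import Groth.Agent.Lib.Helper18.Push.ZeroPull
import Groth.Agent.Lib.Helper18.Cyc.ModIso

/-!
# The proper pushforward `f_* ∘ c` of a bivariant class
-/

set_option autoImplicit false
set_option linter.style.haveILetI false
universe u
open AlgebraicGeometry CategoryTheory Limits

namespace Groth.Agent.Lib.Helper18.BivarPush

open Groth.Agent.Lib.Helper18.BivarEnv Groth.Agent.Lib.Helper18.Push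
open Groth.Agent.Lib.Helper18.CycDiv Groth.Agent.Lib.Helper18.CycPull
open Groth.Agent.Lib.Helper18.C1Core Groth.Agent.Lib.Helper18.BivarFlat
open Groth.Agent.Lib.Helper18.CycMap

section generic

/-- Proper pushforward on Chow groups. -/
noncomputable def pushCH {T S : Scheme.{u}} [IsLocallyNoetherian T] [IsLocallyNoetherian S]
    (h : T ⟶ S) [IsProper h] (δT : T → ℤ) (δS : S → ℤ) (hdT : Cyc.IsDimFun T δT)
    (hdS : Cyc.IsDimFun S δS) (hδ : Cyc.DeltaCompat h δT δS) (l : ℤ) :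
    ChowOps.CH T δT l →+ ChowOps.CH S δS l :=
  QuotientAddGroup.map (ChowOps.ratTriv T δT l) (ChowOps.ratTriv S δS l) (mapHom h δT δS l) (by
    unfold ChowOps.ratTriv
    rw [AddSubgroup.closure_le]
    intro a ha
    apply AddSubgroup.subset_closure
    exact ratEquivZero_map h δT δS hdT hdS hδ l a.1 ha)

theorem pushCH_cl {T S : Scheme.{u}} [IsLocallyNoetherian T] [IsLocallyNoetherian S]
    (h : T ⟶ S) [IsProper h] (δT : T → ℤ) (δS : S → ℤ) (hdT : Cyc.IsDimFun T δT)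
    (hdS : Cyc.IsDimFun S δS) (hδ : Cyc.DeltaCompat h δT δS) (l : ℤ)
    (β : AlgebraicCycle T ℤ) (hβ : β ∈ Cyc.Zk T δT l) :
    pushCH h δT δS hdT hdS hδ l (ChowOps.cl β hβ) =
      ChowOps.cl (AlgebraicCycle.map h δT δS β) (Bivar.cycMap_mem_Zk h δT δS l hβ) := rfl

theorem map_congr_hom {A D : Scheme.{u}} (u v : A ⟶ D) [QuasiCompact u] [QuasiCompact v]
    (e : u = v) (δA : A → ℤ) (δD : D → ℤ) (α : AlgebraicCycle A ℤ) :
    AlgebraicCycle.map u δA δD α = AlgebraicCycle.map v δA δD α := by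
  subst e
  rfl

/-- Pushforward along the two sides of a commutative square. -/
theorem map_comm_sq {A B C D : Scheme.{u}} (a : A ⟶ B) (b : B ⟶ D) (a' : A ⟶ C) (b' : C ⟶ D)
    [QuasiCompact a] [QuasiCompact b] [QuasiCompact a'] [QuasiCompact b'] (w : a ≫ b = a' ≫ b')
    (δA : A → ℤ) (δB : B → ℤ) (δC : C → ℤ) (δD : D → ℤ) (ha : Cyc.DeltaCompat a δA δB)
    (hb : Cyc.DeltaCompat b δB δD) (ha' : Cyc.DeltaCompat a' δA δC)
    (hb' : Cyc.DeltaCompat b' δC δD) (α : AlgebraicCycle A ℤ) :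
    AlgebraicCycle.map b δB δD (AlgebraicCycle.map a δA δB α) =
      AlgebraicCycle.map b' δC δD (AlgebraicCycle.map a' δA δC α) := by
  rw [map_map δA δB δD a b ha hb, map_map δA δC δD a' b' ha' hb']
  exact map_congr_hom _ _ w δA δD α

/-- A nowhere-zero family of rational sections of an invertible module. -/
theorem exists_nowhere_zero {S : Scheme.{u}} (N : S.Modules) (hN : PicF.IsInvertible N) :
    ∃ w : (ξ : S) → Cyc.secFibre N ξ, ∀ ξ, w ξ ≠ 0 := by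
  choose g hg using fun ξ => exists_freeGen N hN ξ
  exact ⟨fun ξ => Submodule.Quotient.mk (g ξ), fun ξ => mk_ne_zero_of_freeGen N (hg ξ)⟩

open Groth.Agent.Lib.Helper18.ModIso in
/-- Gysin maps commute with proper pushforward; the module upstairs is only isomorphic to the
inverse image, and the dimension functions on the zero schemes are free. -/
theorem gysin_push_core {S S' D E : Scheme.{u}} {f : S' ⟶ S} {i : D ⟶ S} {j : E ⟶ S'}
    {g : E ⟶ D} (sq : IsPullback j g f i) [IsClosedImmersion i] [IsClosedImmersion j]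
    [IsLocallyNoetherian S] [IsLocallyNoetherian S'] [IsProper f] [IsProper g]
    (δ : S → ℤ) (δ' : S' → ℤ) (δD : D → ℤ) (δE : E → ℤ)
    (eD : δD = fun d => δ (i d)) (eE : δE = fun z => δ' (j z))
    (hdim : Cyc.IsDimFun S δ) (hdim' : Cyc.IsDimFun S' δ') (hδ : Cyc.DeltaCompat f δ' δ)
    (L : S.Modules) (hL : PicF.IsInvertible L) (σ : L.presheaf.obj (Opposite.op ⊤))
    (hσ : Cyc.IsZeroSchemeOf i L σ) (N : S'.Modules) (hN : PicF.IsInvertible N)
    (φ : N ≅ (Scheme.Modules.pullback f).obj L) (τ : N.presheaf.obj (Opposite.op ⊤))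
    (hτ : Cyc.IsZeroSchemeOf j N τ) (k l : ℤ) (e : l + 1 = k) (β : AlgebraicCycle S' ℤ)
    (hβ : β ∈ Cyc.Zk S' δ' k) (w : (ξ : S) → Cyc.secFibre L ξ) (hw : ∀ ξ, w ξ ≠ 0)
    (w'' : (ξ : S') → Cyc.secFibre N ξ) (hw'' : ∀ ξ, w'' ξ ≠ 0) (ζ : AlgebraicCycle D ℤ)
    (hζ : ∀ d, ζ d = Cyc.c1CapFun δ L ⇑(AlgebraicCycle.map f δ' δ β)
      (Cyc.gysinChoice L σ w) (i d))
    (ζ₀ : AlgebraicCycle E ℤ)
    (hζ₀ : ∀ z, ζ₀ z = Cyc.c1CapFun δ' N ⇑β (Cyc.gysinChoice N τ w'') (j z)) :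
    Cyc.RatEquiv δD l ζ (AlgebraicCycle.map g δE δD ζ₀) := by
  subst eD eE e
  have hM : PicF.IsInvertible ((Scheme.Modules.pullback f).obj L) :=
    Groth.Agent.Lib.Helper28.PullbackInv.isInvertible_pullback f hL
  refine gysin_map_ratEquiv_sq sq δ δ' hdim hdim' hδ L hL σ hσ (φ.hom.app ⊤ τ)
    (isZeroSchemeOf_iso φ j τ hτ) l β hβ w hw (fun ξ => fibreEquiv φ ξ (w'' ξ))
    (fun ξ => fibreEquiv_ne_zero φ ξ (hw'' ξ)) ζ hζ ζ₀ (fun z => ?_)
  rw [hζ₀ z, ← c1CapFun_fibreEquiv δ' hdim' hN hM φ ⇑β _ (gysinChoice_ne_zero N τ w'' hw'')]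
  congr 2
  funext ξ
  exact (gysinChoice_fibreEquiv φ τ w'' ξ).symm

end generic

section pp

variable {X Y Z : Scheme.{u}} (δX : X → ℤ) {δY : Y → ℤ} {δZ : Z → ℤ}
  (f : X ⟶ Y) [IsProper f] {g : Y ⟶ Z}

/-- The fibre product `s.X' ×_Y X`. -/
noncomputable abbrev PX (s : Bivar.Sq g δY δZ) : Scheme.{u} := pullback s.g' f

/-- The projection to `s.X'`. -/
noncomputable abbrev pf (s : Bivar.Sq g δY δZ) : PX f s ⟶ s.X' := pullback.fst s.g' f

/-- The projection to `X`. -/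
noncomputable abbrev pX (s : Bivar.Sq g δY δZ) : PX f s ⟶ X := pullback.snd s.g' f

theorem lft_pX (s : Bivar.Sq g δY δZ) : LocallyOfFiniteType (pX f s) := by
  haveI := lft_g' s
  infer_instance

/-- The induced dimension function on the fibre product. -/
noncomputable def δP (s : Bivar.Sq g δY δZ) : PX f s → ℤ :=
  haveI := lft_pX f s
  Classical.choose (exists_deltaCompat (pX f s) δX)

theorem δP_spec (s : Bivar.Sq g δY δZ) : Cyc.DeltaCompat (pX f s) (δP δX f s) δX :=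
  haveI := lft_pX f s
  Classical.choose_spec (exists_deltaCompat (pX f s) δX)

/-- The square over `f ≫ g` attached to a square over `g`. -/
noncomputable abbrev liftSq (s : Bivar.Sq g δY δZ) : Bivar.Sq (f ≫ g) δX δZ :=
  ⟨s.Y', PX f s, s.g, pf f s ≫ s.f', pX f s,
    (IsPullback.of_hasPullback s.g' f).paste_horiz s.isPullback, s.lft, s.δY', δP δX f s,
    s.compatY, δP_spec δX f s⟩

variable (hδf : Cyc.DeltaCompat f δX δY)

include hδf in
theorem compat_pf (s : Bivar.Sq g δY δZ) : Cyc.DeltaCompat (pf f s) (δP δX f s) s.δX' := by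
  have h1 : Cyc.DeltaCompat (pf f s ≫ s.g') (δP δX f s) δY := by
    rw [pullback.condition]
    exact Bivar.deltaCompat_comp (pX f s) f (δP δX f s) δX δY (δP_spec δX f s) hδf
  exact deltaCompat_cancel (pf f s) s.g' (δP δX f s) s.δX' δY h1 s.compatX


section maps

variable (s t : Bivar.Sq g δY δZ) (h' : t.X' ⟶ s.X') (w₃ : h' ≫ s.g' = t.g')

/-- The induced map of fibre products. -/
noncomputable def liftMap : PX f t ⟶ PX f s :=
  pullback.lift (pf f t ≫ h') (pX f t) (by rw [Category.assoc, w₃, pullback.condition])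

theorem liftMap_fst : liftMap f s t h' w₃ ≫ pf f s = pf f t ≫ h' := pullback.lift_fst _ _ _

theorem liftMap_snd : liftMap f s t h' w₃ ≫ pX f s = pX f t := pullback.lift_snd _ _ _

theorem liftMap_isPullback : IsPullback (liftMap f s t h' w₃) (pf f t) (pf f s) h' := by
  refine IsPullback.of_right ?_ (liftMap_fst f s t h' w₃) (IsPullback.of_hasPullback s.g' f).flip
  rw [liftMap_snd, w₃]
  exact (IsPullback.of_hasPullback t.g' f).flip

theorem compat_liftMap : Cyc.DeltaCompat (liftMap f s t h' w₃) (δP δX f t) (δP δX f s) :=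
  compat_h' (liftSq δX f s) (liftSq δX f t) (liftMap f s t h' w₃) (liftMap_snd f s t h' w₃)

end maps

section op

variable (hX : Cyc.IsSetup X δX) (hY : Cyc.IsSetup Y δY) [LocallyOfFiniteType g] (p : ℤ)
  (c : Bivar.Cl p (f ≫ g) δX δZ)

include hX in
theorem noeth_PX (s : Bivar.Sq g δY δZ) : IsLocallyNoetherian (PX f s) :=
  noeth_X' hX.1 (liftSq δX f s)

include hX in
theorem dim_PX (s : Bivar.Sq g δY δZ) : Cyc.IsDimFun (PX f s) (δP δX f s) :=
  dim_X' hX (liftSq δX f s)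

/-- The operation of `f_* ∘ c`. -/
noncomputable def ppOp (s : Bivar.Sq g δY δZ) (k : ℤ) :
    ChowOps.CH s.Y' s.δY' k →+ ChowOps.CH s.X' s.δX' (k - p) :=
  haveI := noeth_PX δX f hX s
  haveI := noeth_X' hY.1 s
  (pushCH (pf f s) (δP δX f s) s.δX' (dim_PX δX f hX s) (dim_X' hY s) (compat_pf δX f hδf s)
    (k - p)).comp (c.op (liftSq δX f s) k)

theorem ppOp_apply (s : Bivar.Sq g δY δZ) (k : ℤ) (a : ChowOps.CH s.Y' s.δY' k)
    (β : AlgebraicCycle (PX f s) ℤ) (hβ : β ∈ Cyc.Zk (PX f s) (δP δX f s) (k - p))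
    (e : c.op (liftSq δX f s) k a = ChowOps.cl β hβ) :
    ppOp δX f hδf hX hY p c s k a =
      ChowOps.cl (AlgebraicCycle.map (pf f s) (δP δX f s) s.δX' β)
        (Bivar.cycMap_mem_Zk (pf f s) (δP δX f s) s.δX' (k - p) hβ) := by
  haveI := noeth_PX δX f hX s
  haveI := noeth_X' hY.1 s
  show pushCH (pf f s) (δP δX f s) s.δX' (dim_PX δX f hX s) (dim_X' hY s) (compat_pf δX f hδf s)
    (k - p) (c.op (liftSq δX f s) k a) = _
  rw [e, pushCH_cl]

/-- The defining property of `f_* ∘ c` on an arbitrary fibre product. -/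
theorem ppOp_spec (s : Bivar.Sq g δY δZ) (X' : Scheme.{u}) (f' : X' ⟶ s.X') [IsProper f']
    (gX : X' ⟶ X) (hp : IsPullback f' gX s.g' f) (δX' : X' → ℤ)
    (hX' : Cyc.DeltaCompat gX δX' δX) (k : ℤ) (α : AlgebraicCycle s.Y' ℤ)
    (hα : α ∈ Cyc.Zk s.Y' s.δY' k) (β : AlgebraicCycle X' ℤ) (hβ : β ∈ Cyc.Zk X' δX' (k - p))
    (e : c.op ⟨s.Y', X', s.g, f' ≫ s.f', gX, hp.paste_horiz s.isPullback, s.lft, s.δY', δX',
      s.compatY, hX'⟩ k (ChowOps.cl α hα) = ChowOps.cl β hβ) :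
    ppOp δX f hδf hX hY p c s k (ChowOps.cl α hα) =
      ChowOps.cl (AlgebraicCycle.map f' δX' s.δX' β)
        (Bivar.cycMap_mem_Zk f' δX' s.δX' (k - p) hβ) := by
  classical
  set S₁ : Bivar.Sq (f ≫ g) δX δZ := ⟨s.Y', X', s.g, f' ≫ s.f', gX,
    hp.paste_horiz s.isPullback, s.lft, s.δY', δX', s.compatY, hX'⟩ with hS₁
  haveI := noeth_PX δX f hX s
  haveI := noeth_X' hY.1 s
  haveI : IsLocallyNoetherian X' := noeth_X' hX.1 S₁
  have hdX' : Cyc.IsDimFun X' δX' := dim_X' hX S₁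
  let ε : X' ⟶ PX f s := hp.isoPullback.hom
  have hε1 : ε ≫ pf f s = f' := hp.isoPullback_hom_fst
  have hε2 : ε ≫ pX f s = gX := hp.isoPullback_hom_snd
  haveI : IsProper ε := inferInstance
  have hcf' : Cyc.DeltaCompat f' δX' s.δX' := by
    have h1 : Cyc.DeltaCompat (f' ≫ s.g') δX' δY := by
      rw [hp.w]
      exact Bivar.deltaCompat_comp gX f δX' δX δY hX' hδf
    exact deltaCompat_cancel f' s.g' δX' s.δX' δY h1 s.compatX
  have hcε : Cyc.DeltaCompat ε δX' (δP δX f s) :=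
    compat_h' (liftSq δX f s) S₁ ε hε2
  haveI : IsProper (𝟙 s.Y') := inferInstance
  obtain ⟨β₀, hβ₀, e1, e2⟩ := c.push (liftSq δX f s) S₁ (𝟙 s.Y') ε (Category.id_comp _)
    (by
      show ε ≫ pf f s ≫ s.f' = (f' ≫ s.f') ≫ 𝟙 _
      rw [Category.comp_id, ← Category.assoc, hε1]) hε2 k α hα
  have hid : AlgebraicCycle.map (𝟙 s.Y') s.δY' s.δY' α = α := AlgebraicCycle.map_id _ _
  have e2' : c.op (liftSq δX f s) k (ChowOps.cl α hα) =
      ChowOps.cl (AlgebraicCycle.map ε δX' (δP δX f s) β₀)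
        (Bivar.cycMap_mem_Zk ε δX' (δP δX f s) (k - p) hβ₀) := by
    rw [← e2]
    congr 1
    exact Bivar.cl_congr hid.symm _ _
  rw [ppOp_apply δX f hδf hX hY p c s k _ _ _ e2']
  have e3 : ChowOps.cl β₀ hβ₀ = ChowOps.cl β hβ := e1.symm.trans e
  have e4 := cl_map_congr f' δX' s.δX' hdX' (dim_X' hY s) hcf' (k - p) β₀ β hβ₀ hβ e3
  rw [← e4]
  apply Bivar.cl_congr
  rw [map_map δX' (δP δX f s) s.δX' ε (pf f s) hcε (compat_pf δX f hδf s)]
  exact map_congr_hom _ _ hε1 δX' s.δX' β₀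

end op


section fields

variable (hX : Cyc.IsSetup X δX) (hY : Cyc.IsSetup Y δY) [LocallyOfFiniteType g] (p : ℤ)
  (c : Bivar.Cl p (f ≫ g) δX δZ)

theorem pp_push (s t : Bivar.Sq g δY δZ) (h : t.Y' ⟶ s.Y') [IsProper h] (h' : t.X' ⟶ s.X')
    [IsProper h'] (w₁ : h ≫ s.g = t.g) (w₂ : h' ≫ s.f' = t.f' ≫ h) (w₃ : h' ≫ s.g' = t.g')
    (k : ℤ) :
    Bivar.PushOK t.δY' t.δX' s.δY' s.δX' h h' (ppOp δX f hδf hX hY p c t k)
      (ppOp δX f hδf hX hY p c s k) := by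
  haveI : IsProper (liftMap f s t h' w₃) :=
    MorphismProperty.of_isPullback (liftMap_isPullback f s t h' w₃).flip inferInstance
  intro α hα
  obtain ⟨β₀, hβ₀, e1, e2⟩ := c.push (liftSq δX f s) (liftSq δX f t) h (liftMap f s t h' w₃) w₁
    (by
      show liftMap f s t h' w₃ ≫ pf f s ≫ s.f' = (pf f t ≫ t.f') ≫ h
      rw [← Category.assoc, liftMap_fst, Category.assoc, w₂, Category.assoc])
    (liftMap_snd f s t h' w₃) k α hα
  refine ⟨AlgebraicCycle.map (pf f t) (δP δX f t) t.δX' β₀,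
    Bivar.cycMap_mem_Zk _ _ _ _ hβ₀, ppOp_apply δX f hδf hX hY p c t k _ _ _ e1, ?_⟩
  rw [ppOp_apply δX f hδf hX hY p c s k _ _ _ e2]
  apply Bivar.cl_congr
  exact map_comm_sq (liftMap f s t h' w₃) (pf f s) (pf f t) h' (liftMap_fst f s t h' w₃)
    (δP δX f t) (δP δX f s) t.δX' s.δX' (compat_liftMap δX f s t h' w₃) (compat_pf δX f hδf s)
    (compat_pf δX f hδf t) (compat_h' s t h' w₃) β₀

theorem pp_pull (s t : Bivar.Sq g δY δZ) (h : t.Y' ⟶ s.Y') [Flat h] (h' : t.X' ⟶ s.X')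
    [Flat h'] (r : ℕ) (hr₁ : Cyc.HasRelDim h r) (hr₂ : Cyc.HasRelDim h' r)
    (w₁ : h ≫ s.g = t.g) (w₂ : h' ≫ s.f' = t.f' ≫ h) (w₃ : h' ≫ s.g' = t.g') (k : ℤ) :
    Bivar.PullOK s.δY' s.δX' t.δY' t.δX' h h' (r : ℤ) (ppOp δX f hδf hX hY p c s k)
      (ppOp δX f hδf hX hY p c t (k + r)) := by
  haveI := noeth_PX δX f hX s
  haveI := noeth_PX δX f hX t
  haveI := noeth_X' hY.1 s
  haveI := noeth_X' hY.1 t
  haveI := lft_g' s
  haveI := lft_g' t
  haveI : LocallyOfFiniteType (h' ≫ s.g') := by rw [w₃]; infer_instance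
  haveI : LocallyOfFiniteType h' := locallyOfFiniteType_of_comp h' s.g'
  haveI : Flat (liftMap f s t h' w₃) :=
    MorphismProperty.of_isPullback (liftMap_isPullback f s t h' w₃).flip inferInstance
  haveI : LocallyOfFiniteType (liftMap f s t h' w₃) :=
    MorphismProperty.of_isPullback (liftMap_isPullback f s t h' w₃).flip inferInstance
  have hr'' : Cyc.HasRelDim (liftMap f s t h' w₃) r :=
    (Groth.Agent.Lib.lead.FibreDimBCLocal.S9358 h' (pf f s) (pf f t) (liftMap f s t h' w₃)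
      (liftMap_isPullback f s t h' w₃).flip r).2.2 hr₂
  intro α hα
  obtain ⟨β₀, hβ₀, e1, H⟩ := c.pull (liftSq δX f s) (liftSq δX f t) h (liftMap f s t h' w₃) r
    hr₁ hr'' w₁
    (by
      show liftMap f s t h' w₃ ≫ pf f s ≫ s.f' = (pf f t ≫ t.f') ≫ h
      rw [← Category.assoc, liftMap_fst, Category.assoc, w₂, Category.assoc])
    (liftMap_snd f s t h' w₃) k α hα
  refine ⟨AlgebraicCycle.map (pf f s) (δP δX f s) s.δX' β₀,
    Bivar.cycMap_mem_Zk _ _ _ _ hβ₀, ppOp_apply δX f hδf hX hY p c s k _ _ _ e1, ?_⟩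
  intro α₁ hα₁c hα₁
  obtain ⟨β₁, hβ₁, hc1, e2⟩ := H α₁ hα₁c hα₁
  refine ⟨AlgebraicCycle.map (pf f t) (δP δX f t) t.δX' β₁,
    Bivar.cycMap_mem_Zk _ _ _ _ hβ₁, ?_, ppOp_apply δX f hδf hX hY p c t (k + r) _ _ _ e2⟩
  exact (pullFun_map_eq_map_pullFun (liftMap_isPullback f s t h' w₃) s.δX' t.δX' (δP δX f s)
    (δP δX f t) (dim_X' hY t) (dim_PX δX f hX t) (compat_pf δX f hδf s) (compat_pf δX f hδf t)
    (r : ℤ) (hc_of_relDim h' r hr₂ t.δX' s.δX' (compat_h' s t h' w₃))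
    (hc_of_relDim (liftMap f s t h' w₃) r hr'' (δP δX f t) (δP δX f s)
      (compat_liftMap δX f s t h' w₃)) β₀ β₁ hc1).symm

theorem pp_gysin (s t : Bivar.Sq g δY δZ) (i : t.Y' ⟶ s.Y') [IsClosedImmersion i]
    (j : t.X' ⟶ s.X') [IsClosedImmersion j] (w₁ : i ≫ s.g = t.g) (w₂ : j ≫ s.f' = t.f' ≫ i)
    (w₃ : j ≫ s.g' = t.g') (L : s.Y'.Modules) (hL : PicF.IsInvertible L)
    (σ : L.presheaf.obj (Opposite.op ⊤)) (hσ : Cyc.IsZeroSchemeOf i L σ)
    (τ : ((Scheme.Modules.pullback s.f').obj L).presheaf.obj (Opposite.op ⊤))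
    (hτ : Cyc.IsZeroSchemeOf j ((Scheme.Modules.pullback s.f').obj L) τ) (k : ℤ) :
    Bivar.GysinOK s.δY' t.δY' s.δX' t.δX' i L σ j ((Scheme.Modules.pullback s.f').obj L) τ
      (ppOp δX f hδf hX hY p c s k) (ppOp δX f hδf hX hY p c t (k - 1)) := by
  haveI := noeth_PX δX f hX s
  haveI := noeth_PX δX f hX t
  haveI := noeth_X' hY.1 s
  haveI := noeth_X' hY.1 t
  haveI : IsClosedImmersion (liftMap f s t j w₃) :=
    MorphismProperty.of_isPullback (liftMap_isPullback f s t j w₃).flip inferInstance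
  have hw₂'' : liftMap f s t j w₃ ≫ pf f s ≫ s.f' = (pf f t ≫ t.f') ≫ i := by
    rw [← Category.assoc, liftMap_fst, Category.assoc, w₂, Category.assoc]
  have hM : PicF.IsInvertible ((Scheme.Modules.pullback s.f').obj L) :=
    Groth.Agent.Lib.Helper28.PullbackInv.isInvertible_pullback s.f' hL
  have hM'' : PicF.IsInvertible ((Scheme.Modules.pullback (pf f s ≫ s.f')).obj L) :=
    Groth.Agent.Lib.Helper28.PullbackInv.isInvertible_pullback (pf f s ≫ s.f') hL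
  have hτ'' : Cyc.IsZeroSchemeOf (liftMap f s t j w₃)
      ((Scheme.Modules.pullback (pf f s ≫ s.f')).obj L)
      (ProjUP.pullSec (pf f s ≫ s.f') L σ) :=
    isZeroSchemeOf_pullSec
      ((isPullback_of_sq (liftSq δX f s) (liftSq δX f t) i (liftMap f s t j w₃) w₁ hw₂''
        (liftMap_snd f s t j w₃)).flip) L hL σ hσ
  have eE : t.δX' = fun z => s.δX' (j z) :=
    delta_eq_comp_of_isClosedImmersion j t.δX' s.δX' (compat_h' s t j w₃)
  have eE'' : δP δX f t = fun z => δP δX f s (liftMap f s t j w₃ z) :=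
    delta_eq_comp_of_isClosedImmersion (liftMap f s t j w₃) (δP δX f t) (δP δX f s)
      (compat_liftMap δX f s t j w₃)
  intro α hα
  obtain ⟨β₀, hβ₀, e1, H⟩ := c.gysin (liftSq δX f s) (liftSq δX f t) i (liftMap f s t j w₃) w₁
    hw₂'' (liftMap_snd f s t j w₃) L hL σ hσ (ProjUP.pullSec (pf f s ≫ s.f') L σ) hτ'' k α hα
  have hβ : AlgebraicCycle.map (pf f s) (δP δX f s) s.δX' β₀ ∈ Cyc.Zk s.X' s.δX' (k - p) :=
    Bivar.cycMap_mem_Zk _ _ _ _ hβ₀
  refine ⟨AlgebraicCycle.map (pf f s) (δP δX f s) s.δX' β₀, hβ,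
    ppOp_apply δX f hδf hX hY p c s k _ _ _ e1, ?_⟩
  intro w hw γ hγc hγ w' hw'
  obtain ⟨w'', hw''⟩ := exists_nowhere_zero _ hM''
  obtain ⟨ζ₀, hζ₀, hζ₀c, e2⟩ := H w hw γ hγc hγ w'' hw''
  have hζmem : gysinCycle j s.δX' (dim_X' hY s) _ hM
      (AlgebraicCycle.map (pf f s) (δP δX f s) s.δX' β₀)
      (Cyc.gysinChoice _ τ w') (gysinChoice_ne_zero _ τ w' hw') ∈
      Cyc.Zk t.X' t.δX' (k - 1 - p) := by
    intro z hz
    rw [gysinCycle_apply]
    apply c1CapFun_eq_zero_of_delta_ne s.δX' _ _ (k - p) (fun ξ hξ => hβ ξ hξ)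
    intro h0
    apply hz
    rw [eE]
    show s.δX' (j z) = _
    rw [h0]; ring
  refine ⟨_, hζmem, fun e => gysinCycle_apply _ _ _ _ _ _ _ _ e, ?_⟩
  rw [ppOp_apply δX f hδf hX hY p c t (k - 1) _ _ _ e2]
  symm
  apply cl_eq_of_ratEquiv
  exact gysin_push_core (liftMap_isPullback f s t j w₃) s.δX' (δP δX f s) t.δX' (δP δX f t)
    eE eE'' (dim_X' hY s) (dim_PX δX f hX s) (compat_pf δX f hδf s) _ hM τ hτ _ hM''
    ((Scheme.Modules.pullbackComp (pf f s) s.f').app L).symm _ hτ'' (k - p) (k - 1 - p)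
    (by ring) β₀ hβ₀ w' hw' w'' hw'' _ (fun e => gysinCycle_apply _ _ _ _ _ _ _ _ e) ζ₀ hζ₀c

/-- The class `f_* ∘ c`. -/
noncomputable def ppCl : Bivar.Cl p g δY δZ where
  op := ppOp δX f hδf hX hY p c
  push := fun s t h _ h' _ w₁ w₂ w₃ k => pp_push δX f hδf hX hY p c s t h h' w₁ w₂ w₃ k
  pull := fun s t h _ h' _ r hr₁ hr₂ w₁ w₂ w₃ k =>
    pp_pull δX f hδf hX hY p c s t h h' r hr₁ hr₂ w₁ w₂ w₃ k
  gysin := fun s t i _ j _ w₁ w₂ w₃ L hL σ hσ τ hτ k =>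
    pp_gysin δX f hδf hX hY p c s t i j w₁ w₂ w₃ L hL σ hσ τ hτ k

theorem isProperPushClass_ppCl :
    Bivar.IsProperPushClass f g c (ppCl δX f hδf hX hY p c) := by
  refine ⟨inferInstance, hδf, ?_⟩
  intro s X' f' _ gX hp δX' hX' k α hα β hβ e
  exact ppOp_spec δX f hδf hX hY p c s X' f' gX hp δX' hX' k α hα β hβ e

end fields

end pp

end Groth.Agent.Lib.Helper18.BivarPush
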